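import Mathlib

set_option autoImplicit false
set_option linter.style.haveILetI false
set_option linter.unusedSectionVars false
set_option linter.unusedVariables false

/-!
# Dihedral Sylow 2-subgroups: the action on the cyclic maximal subgroup
-/

namespace Cfsg.Agent.H2.Dih

open DihedralGroup

theorem dihedral_elt_cases {N : ℕ} (hN : 3 ≤ N) (x : DihedralGroup N) (hx : orderOf x = N) :
    (∀ a : ZMod N, r a ∈ Subgroup.zpowers x) ∧ (∀ a : ZMod N, sr a * x * (sr a)⁻¹ = x⁻¹) := by
  haveI : NeZero N := ⟨by omega⟩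
  rcases x with i | i
  · constructor
    · have hle : Subgroup.zpowers (r i) ≤ Subgroup.zpowers (r (1 : ZMod N)) := by
        rw [Subgroup.zpowers_le]
        obtain ⟨k, rfl⟩ := ZMod.intCast_surjective i
        rw [← DihedralGroup.r_one_zpow]
        exact Subgroup.zpow_mem_zpowers _ _
      have hcard : Nat.card (Subgroup.zpowers (r (1 : ZMod N))) ≤
          Nat.card (Subgroup.zpowers (r i)) := by
        rw [Nat.card_zpowers, Nat.card_zpowers, hx, DihedralGroup.orderOf_r_one]
      have heq := Subgroup.eq_of_le_of_card_ge hle hcard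
      intro a
      rw [heq]
      obtain ⟨k, rfl⟩ := ZMod.intCast_surjective a
      rw [← DihedralGroup.r_one_zpow]
      exact Subgroup.zpow_mem_zpowers _ _
    · intro a
      rw [DihedralGroup.inv_sr, DihedralGroup.sr_mul_r, DihedralGroup.sr_mul_sr,
        DihedralGroup.inv_r]
      congr 1
      ring
  · exfalso
    rw [DihedralGroup.orderOf_sr] at hx
    omega

variable {G : Type*} [Group G]

/-- The elements of a dihedral group either lie in the cyclic maximal subgroup or invert it. -/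
theorem mem_or_inverts {N : ℕ} (hN : 3 ≤ N) (P : Subgroup G) (e : ↥P ≃* DihedralGroup N)
    (σ : G) (hσ : σ ∈ P) (hσo : orderOf σ = N) (p : G) (hp : p ∈ P) :
    p ∈ Subgroup.zpowers σ ∨ p * σ * p⁻¹ = σ⁻¹ := by
  have hx : orderOf (e ⟨σ, hσ⟩) = N := by
    rw [MulEquiv.orderOf_eq, Subgroup.orderOf_mk, hσo]
  obtain ⟨h1, h2⟩ := dihedral_elt_cases hN _ hx
  rcases hq : e ⟨p, hp⟩ with a | a
  · left
    have := h1 a
    rw [← hq] at this
    obtain ⟨k, hk⟩ := Subgroup.mem_zpowers_iff.mp this
    rw [← map_zpow] at hk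
    have hk' := e.injective hk
    have : σ ^ k = p := by
      have := congrArg Subtype.val hk'
      simpa using this
    rw [← this]
    exact Subgroup.zpow_mem_zpowers _ _
  · right
    have := h2 a
    rw [← hq, ← map_inv, ← map_mul, ← map_mul, ← map_inv] at this
    have h3 := e.injective this
    have := congrArg Subtype.val h3
    simpa using this

/-- There is an element inverting the cyclic maximal subgroup. -/
theorem exists_inverting {N : ℕ} (hN : 3 ≤ N) (P : Subgroup G) (e : ↥P ≃* DihedralGroup N)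
    (σ : G) (hσ : σ ∈ P) (hσo : orderOf σ = N) :
    ∃ τ ∈ P, τ * σ * τ⁻¹ = σ⁻¹ := by
  have hx : orderOf (e ⟨σ, hσ⟩) = N := by
    rw [MulEquiv.orderOf_eq, Subgroup.orderOf_mk, hσo]
  obtain ⟨h1, h2⟩ := dihedral_elt_cases hN _ hx
  refine ⟨(e.symm (sr 0) : G), (e.symm (sr 0)).2, ?_⟩
  have := h2 0
  have h3 : e (e.symm (sr 0) * ⟨σ, hσ⟩ * (e.symm (sr 0))⁻¹) = e (⟨σ, hσ⟩⁻¹) := by
    rw [map_mul, map_mul, map_inv, map_inv, e.apply_symm_apply]
    exact this
  have h4 := e.injective h3
  have := congrArg Subtype.val h4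
  simpa using this

/-- Conjugation by an element commuting with `σ` or inverting `σ`, on the powers of `σ`. -/
theorem conj_zpowers_of_inverts {σ p y : G} (hp : p * σ * p⁻¹ = σ⁻¹) (hy : y ∈ Subgroup.zpowers σ) :
    p * y * p⁻¹ = y⁻¹ := by
  obtain ⟨k, rfl⟩ := Subgroup.mem_zpowers_iff.mp hy
  rw [← conj_zpow, hp, inv_zpow]

theorem conj_zpowers_of_mem {σ p y : G} (hp : p ∈ Subgroup.zpowers σ)
    (hy : y ∈ Subgroup.zpowers σ) : p * y * p⁻¹ = y := by
  obtain ⟨k, rfl⟩ := Subgroup.mem_zpowers_iff.mp hy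
  obtain ⟨j, rfl⟩ := Subgroup.mem_zpowers_iff.mp hp
  rw [← zpow_add, ← zpow_neg, ← zpow_add]
  congr 1
  ring

end Cfsg.Agent.H2.Dih
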