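import Mathlib
import Cfsg.Agent.H1.Dihedral
import Cfsg.Agent.H1.DihedralCentralizer
import Cfsg.Agent.H2.Dih.A1
import Cfsg.Agent.S0514

set_option autoImplicit false
set_option linter.style.haveILetI false
set_option linter.unusedSectionVars false
set_option linter.unusedVariables false

/-!
# Dihedral Sylow 2-subgroups: the setup, the involution of the cyclic maximal subgroup
-/

namespace Cfsg.Agent.H2.Dih

open Cfsg.Agent.H1

universe u

/-- The setup: a dihedral Sylow `2`-subgroup of order `2 ^ (a + 1)` with a generator `σ` of its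
cyclic maximal subgroup. -/
structure Setup (G : Type u) [Group G] (a : ℕ) where
  P : Sylow 2 G
  e : ↥(P : Subgroup G) ≃* DihedralGroup (2 ^ a)
  σ : G
  hσ : σ ∈ (P : Subgroup G)
  hσo : orderOf σ = 2 ^ a
  ha : 2 ≤ a

namespace Setup

variable {G : Type u} [Group G] {a : ℕ} (D : Setup G a)

include D in
theorem three_le : 3 ≤ 2 ^ a := by
  have h1 : 2 ^ 2 ≤ 2 ^ a := Nat.pow_le_pow_right (by norm_num) D.ha
  omega

theorem pow_eq_one : D.σ ^ (2 ^ a) = 1 := by
  rw [← D.hσo]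
  exact pow_orderOf_eq_one _

/-- The powers of `σ`, indexed by `ZMod (2 ^ a)`. -/
noncomputable def sp (l : ZMod (2 ^ a)) : G := zmodPow D.σ (2 ^ a) D.pow_eq_one l

theorem sp_add (l m : ZMod (2 ^ a)) : D.sp (l + m) = D.sp l * D.sp m := zmodPow_add _ _ _ _ _

theorem sp_neg (l : ZMod (2 ^ a)) : D.sp (-l) = (D.sp l)⁻¹ := zmodPow_neg _ _ _ _

theorem sp_zero : D.sp 0 = 1 := zmodPow_zero _ _ _

theorem sp_one : D.sp 1 = D.σ := zmodPow_one _ _ _

theorem sp_injective : Function.Injective D.sp := zmodPow_injective _ _ _ D.hσo.symm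

theorem sp_eq_one_iff (l : ZMod (2 ^ a)) : D.sp l = 1 ↔ l = 0 :=
  zmodPow_eq_one_iff _ _ _ D.hσo.symm l

theorem sp_mem_zpowers (l : ZMod (2 ^ a)) : D.sp l ∈ Subgroup.zpowers D.σ :=
  zmodPow_mem_zpowers _ _ _ _

theorem zpowers_le : Subgroup.zpowers D.σ ≤ (D.P : Subgroup G) := by
  rw [Subgroup.zpowers_le]
  exact D.hσ

theorem sp_mem (l : ZMod (2 ^ a)) : D.sp l ∈ (D.P : Subgroup G) :=
  D.zpowers_le (D.sp_mem_zpowers l)

theorem exists_sp_of_mem {y : G} (hy : y ∈ Subgroup.zpowers D.σ) : ∃ l, y = D.sp l := by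
  obtain ⟨k, rfl⟩ := Subgroup.mem_zpowers_iff.mp hy
  exact ⟨(k : ZMod (2 ^ a)), (zmodPow_intCast _ _ _ k).symm⟩

theorem sp_natCast (k : ℕ) : D.sp (k : ZMod (2 ^ a)) = D.σ ^ k := by
  have := zmodPow_intCast D.σ (2 ^ a) D.pow_eq_one (k : ℤ)
  rw [Int.cast_natCast, zpow_natCast] at this
  exact this

theorem sp_pow (l : ZMod (2 ^ a)) (k : ℕ) : D.sp l ^ k = D.sp (l * (k : ZMod (2 ^ a))) := by
  induction k with
  | zero => rw [pow_zero, Nat.cast_zero, mul_zero, sp_zero]
  | succ k ih =>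
    rw [pow_succ, ih, ← sp_add]
    congr 1
    push_cast
    ring

/-- The element of order two of `ZMod (2 ^ a)`. -/
def hh (a : ℕ) : ZMod (2 ^ a) := ((2 ^ (a - 1) : ℕ) : ZMod (2 ^ a))

include D in
theorem two_mul_hh : 2 * hh a = 0 := by
  unfold hh
  have h1 : 2 * 2 ^ (a - 1) = 2 ^ a := by
    rw [← pow_succ']
    congr 1
    have := D.ha
    omega
  have : ((2 * 2 ^ (a - 1) : ℕ) : ZMod (2 ^ a)) = 0 := by
    rw [h1]
    exact ZMod.natCast_self _
  rw [← this]
  push_cast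
  ring

include D in
theorem hh_ne_zero : hh a ≠ 0 := by
  unfold hh
  intro h
  rw [ZMod.natCast_eq_zero_iff] at h
  have h1 : 2 ^ (a - 1) < 2 ^ a := Nat.pow_lt_pow_right (by norm_num) (by have := D.ha; omega)
  have h2 : 0 < 2 ^ (a - 1) := Nat.pos_of_ne_zero (pow_ne_zero _ two_ne_zero)
  exact absurd (Nat.le_of_dvd h2 h) (by omega)

include D in
theorem neg_hh : -hh a = hh a := by
  have := D.two_mul_hh
  rw [two_mul] at this
  exact neg_eq_of_add_eq_zero_left this

include D in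
theorem eq_hh_of_two_mul {x : ZMod (2 ^ a)} (hx : 2 * x = 0) (hx0 : x ≠ 0) : x = hh a :=
  zmod_two_pow_two_torsion a x (hh a) hx D.two_mul_hh hx0 D.hh_ne_zero

/-- The involution of the cyclic maximal subgroup. -/
noncomputable def J : G := D.sp (hh a)

theorem J_ne_one : D.J ≠ 1 := by
  intro h
  exact D.hh_ne_zero ((D.sp_eq_one_iff _).mp h)

theorem J_mul_self : D.J * D.J = 1 := by
  unfold J
  rw [← sp_add, ← two_mul, D.two_mul_hh, sp_zero]

theorem J_inv : D.J⁻¹ = D.J := inv_eq_of_mul_eq_one_right D.J_mul_self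

theorem orderOf_J : orderOf D.J = 2 := by
  apply orderOf_eq_prime
  · rw [pow_two]; exact D.J_mul_self
  · exact D.J_ne_one

/-- Every nonidentity power of `σ` has `J` as a power. -/
theorem exists_pow_eq_J {l : ZMod (2 ^ a)} (hl : l ≠ 0) : ∃ m : ℕ, D.sp l ^ m = D.J := by
  obtain ⟨m, hm1, hm2⟩ := zmod_two_pow_exists_invol a l hl
  refine ⟨m, ?_⟩
  rw [sp_pow, D.eq_hh_of_two_mul hm2 hm1]
  rfl

/-- The conjugates of the powers of `σ` under `P`. -/
theorem conj_sp {p : G} (hp : p ∈ (D.P : Subgroup G)) (l : ZMod (2 ^ a)) :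
    p * D.sp l * p⁻¹ = D.sp l ∨ p * D.sp l * p⁻¹ = D.sp (-l) := by
  rcases mem_or_inverts D.three_le (D.P : Subgroup G) D.e D.σ D.hσ D.hσo p hp with h | h
  · left
    exact conj_zpowers_of_mem h (D.sp_mem_zpowers l)
  · right
    rw [sp_neg]
    exact conj_zpowers_of_inverts h (D.sp_mem_zpowers l)

/-- An element of `P` centralizing a power of `σ` of order at least four is a power of `σ`. -/
theorem mem_zpowers_of_conj_sp {p : G} (hp : p ∈ (D.P : Subgroup G)) {l : ZMod (2 ^ a)}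
    (hl : 2 * l ≠ 0) (h : p * D.sp l * p⁻¹ = D.sp l) : p ∈ Subgroup.zpowers D.σ := by
  rcases mem_or_inverts D.three_le (D.P : Subgroup G) D.e D.σ D.hσ D.hσo p hp with h' | h'
  · exact h'
  · exfalso
    have h1 := conj_zpowers_of_inverts h' (D.sp_mem_zpowers l)
    rw [h, ← sp_neg] at h1
    have h2 := D.sp_injective h1
    apply hl
    rw [two_mul]
    nth_rewrite 1 [h2]
    exact neg_add_cancel l

theorem exists_tau : ∃ τ ∈ (D.P : Subgroup G), ∀ l, τ * D.sp l * τ⁻¹ = D.sp (-l) := by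
  obtain ⟨τ, hτ, h⟩ := exists_inverting D.three_le (D.P : Subgroup G) D.e D.σ D.hσ D.hσo
  refine ⟨τ, hτ, fun l => ?_⟩
  rw [sp_neg]
  exact conj_zpowers_of_inverts h (D.sp_mem_zpowers l)

/-- `P` centralizes `J`. -/
theorem le_centralizer_J : (D.P : Subgroup G) ≤ Subgroup.centralizer ({D.J} : Set G) := by
  intro p hp
  rw [Subgroup.mem_centralizer_iff]
  intro y hy
  rw [Set.mem_singleton_iff] at hy
  subst hy
  have h : p * D.J * p⁻¹ = D.J := by
    rcases D.conj_sp hp (hh a) with h | h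
    · exact h
    · rw [D.neg_hh] at h
      exact h
  calc D.J * p = (p * D.J * p⁻¹) * p := by rw [h]
    _ = p * D.J := by group

end Setup

end Cfsg.Agent.H2.Dih
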