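import Mathlib
import Cfsg.Agent.H2.Dih.A2

set_option autoImplicit false
set_option linter.style.haveILetI false
set_option linter.unusedSectionVars false
set_option linter.unusedVariables false

/-!
# Dihedral Sylow 2-subgroups: the normal 2-complement of the centralizer of the involution, and
fusion of the powers of `σ`
-/

namespace Cfsg.Agent.H2.Dih

open Cfsg.Agent.H1

universe u

namespace Setup

variable {G : Type u} [Group G] [Finite G] {a : ℕ} (D : Setup G a)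

/-- The normal `2`-complement of `C_G(J)`, as a subgroup of `G`. -/
theorem exists_core : ∃ K : Subgroup G,
    K ≤ Subgroup.centralizer ({D.J} : Set G) ∧
    (∀ c ∈ Subgroup.centralizer ({D.J} : Set G), ∀ k ∈ K, c * k * c⁻¹ ∈ K) ∧
    Odd (Nat.card K) ∧
    ∀ g ∈ Subgroup.centralizer ({D.J} : Set G), ∃ κ ∈ K, ∃ p ∈ (D.P : Subgroup G), g = κ * p := by
  classical
  haveI : Fact (Nat.Prime 2) := ⟨Nat.prime_two⟩
  have h2a : 2 ≤ 2 ^ a := by have := D.three_le; omega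
  obtain ⟨C, hC⟩ : ∃ C : Subgroup G, C = Subgroup.centralizer ({D.J} : Set G) := ⟨_, rfl⟩
  rw [← hC]
  obtain ⟨K, hKn, hKodd, k, hk⟩ : ∃ N : Subgroup ↥C, N.Normal ∧ Odd (Nat.card N) ∧
      ∃ k : ℕ, N.index = 2 ^ k := by
    rw [hC]
    exact Cfsg.Agent.S0514.result D.P (2 ^ a) h2a ⟨D.e⟩ D.J D.orderOf_J
  have hPC : (D.P : Subgroup G) ≤ C := by rw [hC]; exact D.le_centralizer_J
  set PC : Subgroup ↥C := (D.P : Subgroup G).subgroupOf C with hPCdef
  have hcardPC : Nat.card PC = Nat.card (D.P : Subgroup G) :=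
    Nat.card_congr (Subgroup.subgroupOfEquivOfLe hPC).toEquiv
  obtain ⟨m, hm⟩ := IsPGroup.iff_card.mp D.P.2
  have hcop : Nat.Coprime (Nat.card K) (Nat.card PC) := by
    rw [hcardPC, hm]
    exact Nat.Coprime.pow_right _ hKodd.coprime_two_right
  have hcardC : Nat.card K * 2 ^ k = Nat.card C := by
    rw [← hk]
    exact Subgroup.card_mul_index K
  -- `2 ^ k = |P|`
  have hkm : 2 ^ k = Nat.card PC := by
    apply Nat.dvd_antisymm
    · -- `2 ^ k ∣ |C| ∣ |G| = |P| * index`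
      have h1 : 2 ^ k ∣ Nat.card G := by
        have : 2 ^ k ∣ Nat.card C := Dvd.intro_left _ hcardC
        exact this.trans (Subgroup.card_subgroup_dvd_card C)
      rw [← Subgroup.card_mul_index (D.P : Subgroup G)] at h1
      rw [hcardPC]
      have h2 : Nat.Coprime (2 ^ k) (D.P : Subgroup G).index := by
        apply Nat.Coprime.pow_left
        rw [Nat.Prime.coprime_iff_not_dvd Nat.prime_two]
        exact D.P.not_dvd_index
      exact h2.dvd_of_dvd_mul_right h1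
    · have h1 : Nat.card PC ∣ Nat.card C := Subgroup.card_subgroup_dvd_card PC
      rw [← hcardC] at h1
      exact hcop.symm.dvd_of_dvd_mul_left h1
  have hcomp : Subgroup.IsComplement' K PC := by
    apply Subgroup.isComplement'_of_coprime _ hcop
    rw [← hkm]
    exact hcardC
  refine ⟨K.map C.subtype, ?_, ?_, ?_, ?_⟩
  · rintro _ ⟨x, -, rfl⟩
    exact x.2
  · rintro c hc _ ⟨x, hx, rfl⟩
    refine ⟨⟨c, hc⟩ * x * ⟨c, hc⟩⁻¹, hKn.conj_mem x hx ⟨c, hc⟩, rfl⟩
  · have : Nat.card (K.map C.subtype) = Nat.card K :=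
      Nat.card_congr (K.equivMapOfInjective C.subtype (Subgroup.subtype_injective C)).toEquiv.symm
    rw [this]
    exact hKodd
  · intro g hg
    obtain ⟨⟨κ, p⟩, h⟩ := hcomp.2 ⟨g, hg⟩
    refine ⟨κ.1.1, ⟨κ.1, κ.2, rfl⟩, p.1.1, Subgroup.mem_subgroupOf.mp p.2, ?_⟩
    have := congrArg Subtype.val h
    simpa using this.symm

/-- An element of odd order of `P` is trivial. -/
theorem eq_one_of_mem_core (K : Subgroup G) (hodd : Odd (Nat.card K)) {w : G} (hwK : w ∈ K)
    (hwP : w ∈ (D.P : Subgroup G)) : w = 1 := by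
  have h1 : orderOf w ∣ Nat.card K := by
    have := orderOf_dvd_natCard (⟨w, hwK⟩ : K)
    rwa [Subgroup.orderOf_mk] at this
  obtain ⟨j, hj⟩ := (IsPGroup.iff_orderOf.mp D.P.2) ⟨w, hwP⟩
  rw [Subgroup.orderOf_mk] at hj
  rw [hj] at h1
  have hj0 : j = 0 := by
    by_contra hj0
    have h2 : 2 ∣ Nat.card K := (dvd_pow_self 2 hj0).trans h1
    exact (Nat.not_even_iff_odd.mpr hodd) (even_iff_two_dvd.mpr h2)
  rw [hj0, pow_zero, orderOf_eq_one_iff] at hj
  exact hj

/-- Conjugation by `κ p` and by `p` agree on the powers of `σ`, when the result is again a power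
of `σ`. -/
theorem conj_eq_of_decomp (K : Subgroup G)
    (hKn : ∀ c ∈ Subgroup.centralizer ({D.J} : Set G), ∀ k ∈ K, c * k * c⁻¹ ∈ K)
    (hodd : Odd (Nat.card K)) {κ p y : G} (hκ : κ ∈ K) (hp : p ∈ (D.P : Subgroup G))
    (hy : y ∈ Subgroup.zpowers D.σ) (h : (κ * p) * y * (κ * p)⁻¹ ∈ Subgroup.zpowers D.σ) :
    (κ * p) * y * (κ * p)⁻¹ = p * y * p⁻¹ := by
  obtain ⟨l, rfl⟩ := D.exists_sp_of_mem hy
  obtain ⟨y', hy'def⟩ : ∃ y', y' = p * D.sp l * p⁻¹ := ⟨_, rfl⟩
  rw [← hy'def]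
  have hy' : y' ∈ Subgroup.zpowers D.σ := by
    rw [hy'def]
    rcases D.conj_sp hp l with h' | h' <;> rw [h'] <;> exact D.sp_mem_zpowers _
  have hy'C : y' ∈ Subgroup.centralizer ({D.J} : Set G) := D.le_centralizer_J (D.zpowers_le hy')
  have hw : (κ * p) * D.sp l * (κ * p)⁻¹ * y'⁻¹ = κ * (y' * κ⁻¹ * y'⁻¹) := by
    rw [hy'def]; group
  have hwK : κ * (y' * κ⁻¹ * y'⁻¹) ∈ K := K.mul_mem hκ (hKn y' hy'C κ⁻¹ (K.inv_mem hκ))
  have hwP : (κ * p) * D.sp l * (κ * p)⁻¹ * y'⁻¹ ∈ (D.P : Subgroup G) :=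
    D.zpowers_le (Subgroup.mul_mem _ h (Subgroup.inv_mem _ hy'))
  rw [← hw] at hwK
  exact mul_inv_eq_one.mp (D.eq_one_of_mem_core K hodd hwK hwP)

/-- An element conjugating a nonidentity power of `σ` to a power of `σ` centralizes `J`. -/
theorem mem_centralizer_J_of_conj {l l' : ZMod (2 ^ a)} (hl : l ≠ 0) {g : G}
    (hg : g * D.sp l * g⁻¹ = D.sp l') : g ∈ Subgroup.centralizer ({D.J} : Set G) := by
  obtain ⟨m, hm⟩ := D.exists_pow_eq_J hl
  have h1 : g * D.J * g⁻¹ = D.sp (l' * (m : ZMod (2 ^ a))) := by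
    rw [← hm, ← conj_pow, hg, sp_pow]
  have h2 : 2 * (l' * (m : ZMod (2 ^ a))) = 0 := by
    rw [← D.sp_eq_one_iff, two_mul, sp_add, ← h1]
    have : g * D.J * g⁻¹ * (g * D.J * g⁻¹) = g * (D.J * D.J) * g⁻¹ := by group
    rw [this, D.J_mul_self]
    group
  have h3 : l' * (m : ZMod (2 ^ a)) ≠ 0 := by
    intro h0
    rw [h0, sp_zero] at h1
    apply D.J_ne_one
    have : D.J = g⁻¹ * (g * D.J * g⁻¹) * g := by group
    rw [this, h1]
    group
  rw [D.eq_hh_of_two_mul h2 h3] at h1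
  rw [Subgroup.mem_centralizer_iff]
  intro y hy
  rw [Set.mem_singleton_iff] at hy
  subst hy
  have h4 : D.sp (hh a) = D.J := rfl
  rw [h4] at h1
  calc D.J * g = (g * D.J * g⁻¹) * g := by rw [h1]
    _ = g * D.J := by group

/-- Fusion of the powers of `σ`. -/
theorem isConj_sp_iff {l l' : ZMod (2 ^ a)} (hl : l ≠ 0) :
    IsConj (D.sp l) (D.sp l') ↔ l' = l ∨ l' = -l := by
  constructor
  · intro h
    obtain ⟨g, hg⟩ := isConj_iff.mp h
    have hgC := D.mem_centralizer_J_of_conj hl hg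
    obtain ⟨K, hKC, hKn, hodd, hdec⟩ := D.exists_core
    obtain ⟨κ, hκ, p, hp, rfl⟩ := hdec g hgC
    have h1 := D.conj_eq_of_decomp K hKn hodd hκ hp (D.sp_mem_zpowers l)
      (by rw [hg]; exact D.sp_mem_zpowers l')
    rw [hg] at h1
    rcases D.conj_sp hp l with h2 | h2
    · left
      rw [h2] at h1
      exact D.sp_injective h1
    · right
      rw [h2] at h1
      exact D.sp_injective h1
  · rintro (rfl | rfl)
    · exact IsConj.refl _
    · obtain ⟨τ, hτ, h⟩ := D.exists_tau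
      exact isConj_iff.mpr ⟨τ, h l⟩

end Setup

end Cfsg.Agent.H2.Dih
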