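import Mathlib
import Cfsg.Prelude.Def_Solvable
import Cfsg.Agent.H1.Cores
import Cfsg.Agent.H2.Dih.A3

set_option autoImplicit false
set_option linter.style.haveILetI false
set_option linter.unusedSectionVars false
set_option linter.unusedVariables false

/-!
# Dihedral Sylow 2-subgroups: the centralizers of the powers of `σ`
-/

namespace Cfsg.Agent.H2.Dih

open Cfsg.Agent.H1

universe u

namespace Setup

variable {G : Type u} [Group G] [Finite G] {a : ℕ} (D : Setup G a)

theorem centralizer_sp_le {l : ZMod (2 ^ a)} (hl : l ≠ 0) :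
    Subgroup.centralizer ({D.sp l} : Set G) ≤ Subgroup.centralizer ({D.J} : Set G) := by
  intro g hg
  apply D.mem_centralizer_J_of_conj hl (l' := l)
  have := (Subgroup.mem_centralizer_iff.mp hg) (D.sp l) (Set.mem_singleton _)
  calc g * D.sp l * g⁻¹ = D.sp l * g * g⁻¹ := by rw [this]
    _ = D.sp l := by group

theorem mem_centralizer_sp_iff {l : ZMod (2 ^ a)} {g : G} :
    g ∈ Subgroup.centralizer ({D.sp l} : Set G) ↔ g * D.sp l * g⁻¹ = D.sp l := by
  rw [Subgroup.mem_centralizer_iff]
  constructor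
  · intro h
    have := h (D.sp l) (Set.mem_singleton _)
    calc g * D.sp l * g⁻¹ = D.sp l * g * g⁻¹ := by rw [this]
      _ = D.sp l := by group
  · intro h y hy
    rw [Set.mem_singleton_iff] at hy
    subst hy
    calc D.sp l * g = (g * D.sp l * g⁻¹) * g := by rw [h]
      _ = g * D.sp l := by group

/-- The centralizer of a nonidentity power of `σ` has a normal `2`-complement, with complement
`C_P(σ ^ l)`. -/
theorem centralizer_data {l : ZMod (2 ^ a)} (hl : l ≠ 0) :
    ∃ Ky : Subgroup ↥(Subgroup.centralizer ({D.sp l} : Set G)), Ky.Normal ∧ Odd (Nat.card Ky) ∧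
      Subgroup.IsComplement' Ky
        ((D.P : Subgroup G).subgroupOf (Subgroup.centralizer ({D.sp l} : Set G))) := by
  classical
  obtain ⟨K, hKC, hKn, hodd, hdec⟩ := D.exists_core
  obtain ⟨H, hH⟩ : ∃ H : Subgroup G, H = Subgroup.centralizer ({D.sp l} : Set G) := ⟨_, rfl⟩
  rw [← hH]
  have hHC : H ≤ Subgroup.centralizer ({D.J} : Set G) := by rw [hH]; exact D.centralizer_sp_le hl
  have hmemH : ∀ {g : G}, g ∈ H ↔ g * D.sp l * g⁻¹ = D.sp l := by
    intro g; rw [hH]; exact D.mem_centralizer_sp_iff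
  refine ⟨K.subgroupOf H, ⟨?_⟩, ?_, ?_⟩
  · intro n hn g
    rw [Subgroup.mem_subgroupOf] at hn ⊢
    exact hKn g.1 (hHC g.2) n.1 hn
  · have h1 : Nat.card (K.subgroupOf H) = Nat.card ↥(K ⊓ H) := by
      rw [← Subgroup.inf_subgroupOf_right]
      exact Nat.card_congr (Subgroup.subgroupOfEquivOfLe inf_le_right).toEquiv
    rw [h1]
    exact Odd.of_dvd_nat hodd (Subgroup.card_dvd_of_le inf_le_left)
  · apply Subgroup.isComplement'_of_disjoint_and_mul_eq_univ
    · rw [Subgroup.disjoint_def]
      intro x hx1 hx2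
      rw [Subgroup.mem_subgroupOf] at hx1 hx2
      exact Subtype.ext (D.eq_one_of_mem_core K hodd hx1 hx2)
    · rw [Set.eq_univ_iff_forall]
      intro x
      obtain ⟨κ, hκ, p, hp, hxe⟩ := hdec x.1 (hHC x.2)
      have hx := hmemH.mp x.2
      have h1 := D.conj_eq_of_decomp K hKn hodd hκ hp (D.sp_mem_zpowers l)
        (by rw [← hxe, hx]; exact D.sp_mem_zpowers l)
      rw [← hxe, hx] at h1
      have hpH : p ∈ H := hmemH.mpr h1.symm
      have hκH : κ ∈ H := by
        have : κ = x.1 * p⁻¹ := by rw [hxe]; group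
        rw [this]
        exact H.mul_mem x.2 (H.inv_mem hpH)
      rw [Set.mem_mul]
      refine ⟨⟨κ, hκH⟩, ?_, ⟨p, hpH⟩, ?_, ?_⟩
      · exact Subgroup.mem_subgroupOf.mpr hκ
      · exact Subgroup.mem_subgroupOf.mpr hp
      · exact Subtype.ext hxe.symm

/-- The `2'`-core of the centralizer of a nonidentity power of `σ` has index a power of `2`. -/
theorem hcore_sp {l : ZMod (2 ^ a)} (hl : l ≠ 0) :
    ∃ k : ℕ, (Cfsg.pPrimeCore 2 ↥(Subgroup.centralizer ({D.sp l} : Set G))).index = 2 ^ k := by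
  obtain ⟨Ky, hKn, hodd, hcomp⟩ := D.centralizer_data hl
  have hle : Ky ≤ Cfsg.pPrimeCore 2 ↥(Subgroup.centralizer ({D.sp l} : Set G)) :=
    le_pPrimeCore hKn hodd.coprime_two_right
  have hidx : Ky.index = Nat.card ((D.P : Subgroup G).subgroupOf
      (Subgroup.centralizer ({D.sp l} : Set G))) := hcomp.symm.index_eq_card
  have hPg : IsPGroup 2 ((D.P : Subgroup G).subgroupOf
      (Subgroup.centralizer ({D.sp l} : Set G))) := D.P.2.comap_subtype
  obtain ⟨k, hk⟩ := IsPGroup.iff_card.mp hPg
  have hdvd : (Cfsg.pPrimeCore 2 ↥(Subgroup.centralizer ({D.sp l} : Set G))).index ∣ 2 ^ k := by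
    rw [← hk, ← hidx]
    exact Subgroup.index_dvd_of_le hle
  obtain ⟨j, -, hj⟩ := (Nat.dvd_prime_pow Nat.prime_two).mp hdvd
  exact ⟨j, hj⟩

/-- The `2`-part of the order of the centralizer of a nonidentity power of `σ`. -/
theorem two_part_centralizer {l : ZMod (2 ^ a)} (hl : l ≠ 0) :
    2 ^ (Nat.card (Subgroup.centralizer ({D.sp l} : Set G))).factorization 2 =
      Nat.card ((D.P : Subgroup G).subgroupOf (Subgroup.centralizer ({D.sp l} : Set G))) := by
  obtain ⟨Ky, hKn, hodd, hcomp⟩ := D.centralizer_data hl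
  have hidx : Ky.index = Nat.card ((D.P : Subgroup G).subgroupOf
      (Subgroup.centralizer ({D.sp l} : Set G))) := hcomp.symm.index_eq_card
  have hPg : IsPGroup 2 ((D.P : Subgroup G).subgroupOf
      (Subgroup.centralizer ({D.sp l} : Set G))) := D.P.2.comap_subtype
  obtain ⟨k, hk⟩ := IsPGroup.iff_card.mp hPg
  have hcard := Subgroup.card_mul_index Ky
  rw [hidx, hk] at hcard
  rw [← hcard, hk]
  have h0 : Nat.card Ky ≠ 0 := Nat.card_pos.ne'
  rw [Nat.factorization_mul h0 (pow_ne_zero _ two_ne_zero), Finsupp.add_apply,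
    Nat.factorization_eq_zero_of_not_dvd (by
      intro h
      exact (Nat.not_even_iff_odd.mpr hodd) (even_iff_two_dvd.mpr h)),
    Nat.Prime.factorization_pow Nat.prime_two]
  simp

theorem zpowers_le_centralizer_sp (l : ZMod (2 ^ a)) :
    Subgroup.zpowers D.σ ≤ Subgroup.centralizer ({D.sp l} : Set G) := by
  rw [Subgroup.zpowers_le, D.mem_centralizer_sp_iff]
  have : D.σ * D.sp l = D.sp l * D.σ := by
    have h1 : D.sp 1 * D.sp l = D.sp l * D.sp 1 := by rw [← sp_add, ← sp_add, add_comm]
    rwa [D.sp_one] at h1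
  rw [this]
  group

/-- The `2`-part of the order of the centralizer of a power of `σ` of order at least four. -/
theorem two_part_centralizer_generic {l : ZMod (2 ^ a)} (hl : 2 * l ≠ 0) :
    (2 ^ (Nat.card (Subgroup.centralizer ({D.sp l} : Set G))).factorization 2 : ℕ) = 2 ^ a := by
  have hl0 : l ≠ 0 := by
    rintro rfl
    exact hl (mul_zero _)
  rw [D.two_part_centralizer hl0]
  have heq : (D.P : Subgroup G).subgroupOf (Subgroup.centralizer ({D.sp l} : Set G)) =
      (Subgroup.zpowers D.σ).subgroupOf (Subgroup.centralizer ({D.sp l} : Set G)) := by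
    ext x
    rw [Subgroup.mem_subgroupOf, Subgroup.mem_subgroupOf]
    constructor
    · intro hx
      exact D.mem_zpowers_of_conj_sp hx hl (D.mem_centralizer_sp_iff.mp x.2)
    · intro hx
      exact D.zpowers_le hx
  rw [heq, Nat.card_congr (Subgroup.subgroupOfEquivOfLe (D.zpowers_le_centralizer_sp l)).toEquiv,
    Nat.card_zpowers, D.hσo]

/-- The `2`-part of the order of the centralizer of `J`. -/
theorem two_part_centralizer_J :
    (2 ^ (Nat.card (Subgroup.centralizer ({D.sp (hh a)} : Set G))).factorization 2 : ℕ) =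
      Nat.card (D.P : Subgroup G) := by
  rw [D.two_part_centralizer D.hh_ne_zero]
  exact Nat.card_congr (Subgroup.subgroupOfEquivOfLe D.le_centralizer_J).toEquiv

theorem card_P : Nat.card (D.P : Subgroup G) = 2 * 2 ^ a := by
  rw [Nat.card_congr D.e.toEquiv, DihedralGroup.nat_card]

end Setup

end Cfsg.Agent.H2.Dih
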