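import Mathlib
import Cfsg.Prelude.Def_Blocks
import Cfsg.Agent.H2.Hom2.B1
import Cfsg.Agent.H2.Dih.A4
import Cfsg.Agent.Lib.helper3.PrincNormal2

set_option autoImplicit false
set_option linter.style.haveILetI false
set_option linter.unusedSectionVars false
set_option linter.unusedVariables false

/-!
# Dihedral Sylow 2-subgroups: the block-theoretic input (column relations)
-/

namespace Cfsg.Agent.H2.Dih

open Cfsg Cfsg.Agent.Lib.helper3.Block Cfsg.Agent.Lib.helper3.Irr
open Cfsg.Agent.Lib.helper3.CharBasic Cfsg.Agent.H2.Hom2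
open scoped ComplexConjugate

universe u

variable {G : Type u} [Group G] [Finite G] {M : Ideal AlgInt} (hM : IsPModular 2 M)

include hM in
/-- Weak orthogonality between an element of odd order and an element of even order. -/
theorem ker_odd_even (x y : G) (hx : Odd (orderOf x)) (hy : 2 ∣ orderOf y) :
    ∑ᶠ ζ ∈ principalBlock M G, (ζ : G → ℂ) x * conj ((ζ : G → ℂ) y) = 0 := by
  haveI : Fact (Nat.Prime 2) := ⟨Nat.prime_two⟩
  apply Cfsg.Agent.S0907.result 2 M hM _ isPBlock_principal x y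
  · intro h
    exact (Nat.not_even_iff_odd.mpr hx) (even_iff_two_dvd.mpr h)
  · exact hy

include hM in
/-- The column of a nonidentity `2`-element whose centralizer has a normal `2`-complement. -/
theorem ker_self (u : G) (hu2 : ∃ k : ℕ, orderOf u = 2 ^ k) (hu1 : u ≠ 1)
    (hcore : ∃ k : ℕ, (Cfsg.pPrimeCore 2 ↥(Subgroup.centralizer ({u} : Set G))).index = 2 ^ k) :
    ∑ᶠ ζ ∈ principalBlock M G, (ζ : G → ℂ) u * conj ((ζ : G → ℂ) u) =
      ((2 ^ (Nat.card (Subgroup.centralizer ({u} : Set G))).factorization 2 : ℕ) : ℂ) := by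
  classical
  letI : Fintype G := Fintype.ofFinite G
  haveI : Fact (Nat.Prime 2) := ⟨Nat.prime_two⟩
  have h := (Cfsg.Agent.S0947.result 2 M hM u hu2 hu1 1 (by rw [orderOf_one]; norm_num)).2
    hcore
  have h2 : (((∑ᶠ ζ ∈ principalBlock M G, ‖(ζ : G → ℂ) (u * ((1 : Subgroup.centralizer
      ({u} : Set G)) : G))‖ ^ 2 : ℝ)) : ℂ) =
      ((2 ^ (Nat.card (Subgroup.centralizer ({u} : Set G))).factorization 2 : ℕ) : ℂ) := by
    rw [h]
    push_cast
    rfl
  rw [ofReal_finsum_mem_norm_sq (principalBlock M G)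
    (fun ζ : IrrCharacter G => (ζ : G → ℂ) (u * ((1 : Subgroup.centralizer
      ({u} : Set G)) : G)))] at h2
  rw [← h2, finsum_mem_def, finsum_eq_sum_of_fintype]
  apply Finset.sum_congr rfl
  intro ζ _
  by_cases hζ : ζ ∈ principalBlock M G
  · rw [Set.indicator_of_mem hζ, if_pos hζ, one_mul]
    simp
  · rw [Set.indicator_of_notMem hζ, if_neg hζ, zero_mul]

include hM in
/-- A character of the principal block does not vanish at an element whose class has odd
size. -/
theorem apply_ne_zero_of_odd_index (χ : IrrCharacter G) (hχ : χ ∈ principalBlock M G) (g : G)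
    (hg : ¬ 2 ∣ (Subgroup.centralizer ({g} : Set G)).index) : (χ : G → ℂ) g ≠ 0 := by
  intro h0
  have h1 : MemLocalIdeal M (centralChar (fun _ : G => (1 : ℂ)) g - centralChar (χ : G → ℂ) g) :=
    hχ g
  have h2 : centralChar (fun _ : G => (1 : ℂ)) g - centralChar (χ : G → ℂ) g =
      (((Subgroup.centralizer ({g} : Set G)).index : ℕ) : ℂ) := by
    unfold centralChar
    rw [h0]
    simp
  rw [h2] at h1
  exact not_memLocalIdeal_natCast hM _ hg h1

namespace Setup

variable {a : ℕ} (D : Setup G a)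

include hM in
theorem apply_J_ne_zero (χ : IrrCharacter G) (hχ : χ ∈ principalBlock M G) :
    (χ : G → ℂ) D.J ≠ 0 := by
  apply apply_ne_zero_of_odd_index hM χ hχ
  intro h
  have h1 : (Subgroup.centralizer ({D.J} : Set G)).index ∣ (D.P : Subgroup G).index :=
    Subgroup.index_dvd_of_le D.le_centralizer_J
  exact D.P.not_dvd_index (h.trans h1)

theorem orderOf_sp_pow (l : ZMod (2 ^ a)) : ∃ k : ℕ, orderOf (D.sp l) = 2 ^ k := by
  obtain ⟨j, hj⟩ := (IsPGroup.iff_orderOf.mp D.P.2) ⟨D.sp l, D.sp_mem l⟩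
  rw [Subgroup.orderOf_mk] at hj
  exact ⟨j, hj⟩

theorem two_dvd_orderOf_sp {l : ZMod (2 ^ a)} (hl : l ≠ 0) : 2 ∣ orderOf (D.sp l) := by
  obtain ⟨k, hk⟩ := D.orderOf_sp_pow l
  rw [hk]
  apply dvd_pow_self
  rintro rfl
  rw [pow_zero, orderOf_eq_one_iff, D.sp_eq_one_iff] at hk
  exact hl hk

theorem apply_sp_neg (χ : IrrCharacter G) (l : ZMod (2 ^ a)) :
    (χ : G → ℂ) (D.sp (-l)) = (χ : G → ℂ) (D.sp l) := by
  obtain ⟨τ, hτ, h⟩ := D.exists_tau
  rw [← h l]
  exact isClassFunction_of_isCharacter (isCharacter_of_isIrrCharacter χ.2) (D.sp l) τ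

/-- The values on the powers of `σ` are real. -/
theorem conj_apply_sp (χ : IrrCharacter G) (l : ZMod (2 ^ a)) :
    conj ((χ : G → ℂ) (D.sp l)) = (χ : G → ℂ) (D.sp l) := by
  rw [← isCharacter_apply_inv (isCharacter_of_isIrrCharacter χ.2), ← sp_neg, D.apply_sp_neg]

include hM in
/-- The column relations for the powers of `σ`. -/
theorem ker_sp (l l' : ZMod (2 ^ a)) (h0 : ¬ (l = 0 ∧ l' = 0)) :
    ∑ᶠ ζ ∈ principalBlock M G, (ζ : G → ℂ) (D.sp l) * conj ((ζ : G → ℂ) (D.sp l')) =
      ((2 ^ a : ℕ) : ℂ) * ((if l' = l then 1 else 0) + (if l' = -l then 1 else 0)) := by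
  by_cases hl : l = 0
  · have hl' : l' ≠ 0 := fun h => h0 ⟨hl, h⟩
    subst hl
    rw [neg_zero, if_neg hl', add_zero, mul_zero, sp_zero]
    apply ker_odd_even hM
    · rw [orderOf_one]; exact odd_one
    · exact D.two_dvd_orderOf_sp hl'
  by_cases hl' : l' = 0
  · subst hl'
    have hne : (0 : ZMod (2 ^ a)) ≠ l := fun h => hl h.symm
    have hne' : (0 : ZMod (2 ^ a)) ≠ -l := fun h => hl (neg_eq_zero.mp h.symm)
    rw [if_neg hne, if_neg hne', add_zero, mul_zero, sp_zero]
    have h1 := ker_odd_even hM (1 : G) (D.sp l) (by rw [orderOf_one]; exact odd_one)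
      (D.two_dvd_orderOf_sp hl)
    have h2 : ∑ᶠ ζ ∈ principalBlock M G, (ζ : G → ℂ) (D.sp l) * conj ((ζ : G → ℂ) 1) =
        ∑ᶠ ζ ∈ principalBlock M G, (ζ : G → ℂ) 1 * conj ((ζ : G → ℂ) (D.sp l)) := by
      apply finsum_mem_congr rfl
      intro ζ _
      rw [D.conj_apply_sp ζ l]
      have := D.conj_apply_sp ζ 0
      rw [sp_zero] at this
      rw [this]
      ring
    rw [h2, h1]
  by_cases hc : l' = l ∨ l' = -l
  · -- conjugate case
    have hval : ∀ ζ : IrrCharacter G, (ζ : G → ℂ) (D.sp l') = (ζ : G → ℂ) (D.sp l) := by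
      intro ζ
      rcases hc with rfl | rfl
      · rfl
      · exact D.apply_sp_neg ζ l
    have h1 : ∑ᶠ ζ ∈ principalBlock M G, (ζ : G → ℂ) (D.sp l) * conj ((ζ : G → ℂ) (D.sp l')) =
        ∑ᶠ ζ ∈ principalBlock M G, (ζ : G → ℂ) (D.sp l) * conj ((ζ : G → ℂ) (D.sp l)) := by
      apply finsum_mem_congr rfl
      intro ζ _
      rw [hval ζ]
    rw [h1, ker_self hM (D.sp l) (D.orderOf_sp_pow l) (fun h => hl ((D.sp_eq_one_iff l).mp h))
      (D.hcore_sp hl)]
    by_cases h2l : 2 * l = 0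
    · have hlh : l = hh a := D.eq_hh_of_two_mul h2l hl
      have hneg : -l = l := by rw [hlh]; exact D.neg_hh
      have hl'l : l' = l := by
        rcases hc with h | h
        · exact h
        · rw [h, hneg]
      rw [hneg, if_pos hl'l]
      subst hlh
      rw [D.two_part_centralizer_J, D.card_P]
      push_cast
      ring
    · rw [D.two_part_centralizer_generic h2l]
      have hne : l ≠ -l := by
        intro h
        apply h2l
        rw [two_mul]
        nth_rewrite 1 [h]
        exact neg_add_cancel l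
      rcases hc with rfl | rfl
      · rw [if_pos rfl, if_neg hne]
        ring
      · rw [if_neg hne.symm, if_pos rfl]
        ring
  · push Not at hc
    rw [if_neg hc.1, if_neg hc.2, add_zero, mul_zero]
    apply ker_nonconj hM D.P _ _ (D.sp_mem l) (D.sp_mem l')
    rw [D.isConj_sp_iff hl]
    push Not
    exact hc

end Setup

end Cfsg.Agent.H2.Dih
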