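import Mathlib
import Cfsg.Prelude.Def_Characters
import Cfsg.Agent.H1.Dihedral
import Cfsg.Agent.H2.Hom2.C5
import Cfsg.Agent.Lib.helper3.TransferChar
import Cfsg.Agent.Lib.helper3.Gallagher3
import Cfsg.Agent.Lib.helper3.CentType1

set_option autoImplicit false
set_option linter.style.haveILetI false
set_option linter.unusedSectionVars false
set_option linter.unusedVariables false

/-!
# The linear characters of a cyclic group
-/

namespace Cfsg.Agent.H2.Dih

open Cfsg Cfsg.Agent.Lib.helper3.Irr Cfsg.Agent.Lib.helper3.IndFun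
open Cfsg.Agent.Lib.helper3.CharBasic Cfsg.Agent.H1 Cfsg.Agent.H2.Hom2
open scoped ComplexConjugate

section roots

variable {N : ℕ} [NeZero N] {ζ : ℂ} (hζ : IsPrimitiveRoot ζ N)

/-- The primitive root as a unit. -/
noncomputable def zu : ℂˣ := (hζ.isUnit (NeZero.ne N)).unit

theorem zu_coe : ((zu hζ : ℂˣ) : ℂ) = ζ := IsUnit.unit_spec _

theorem zu_pow : zu hζ ^ N = 1 := by
  apply Units.ext
  rw [Units.val_pow_eq_pow_val, zu_coe, hζ.pow_eq_one]
  rfl

theorem orderOf_zu : orderOf (zu hζ) = N := by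
  rw [← orderOf_units, zu_coe, ← hζ.eq_orderOf]

/-- The powers of the primitive root, indexed by `ZMod N`. -/
noncomputable def zp (j : ZMod N) : ℂ := ((zmodPow (zu hζ) N (zu_pow hζ) j : ℂˣ) : ℂ)

theorem zp_add (j k : ZMod N) : zp hζ (j + k) = zp hζ j * zp hζ k := by
  unfold zp
  rw [zmodPow_add, Units.val_mul]

theorem zp_zero : zp hζ 0 = 1 := by
  unfold zp
  rw [zmodPow_zero]
  rfl

theorem zp_neg (j : ZMod N) : zp hζ (-j) = (zp hζ j)⁻¹ := by
  unfold zp
  rw [zmodPow_neg, Units.val_inv_eq_inv_val]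

theorem zp_natCast (k : ℕ) : zp hζ (k : ZMod N) = ζ ^ k := by
  unfold zp
  have := zmodPow_intCast (zu hζ) N (zu_pow hζ) (k : ℤ)
  rw [Int.cast_natCast, zpow_natCast] at this
  rw [this, Units.val_pow_eq_pow_val, zu_coe]

theorem zp_injective : Function.Injective (zp hζ) := by
  intro j k h
  unfold zp at h
  exact zmodPow_injective _ _ _ (orderOf_zu hζ).symm (Units.ext h)

theorem zp_ne_zero (j : ZMod N) : zp hζ j ≠ 0 := by
  unfold zp
  exact Units.ne_zero _

theorem zp_pow (j : ZMod N) : zp hζ j ^ N = 1 := by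
  unfold zp
  rw [← Units.val_pow_eq_pow_val]
  have : zmodPow (zu hζ) N (zu_pow hζ) j ^ N = 1 := by
    obtain ⟨k, -, hk⟩ := zmodPow_exists_zpow (zu hζ) N (zu_pow hζ) j
    rw [hk, ← zpow_natCast, ← zpow_mul, mul_comm, zpow_mul, zpow_natCast, zu_pow, one_zpow]
  rw [this]
  rfl

theorem norm_zp (j : ZMod N) : ‖zp hζ j‖ = 1 :=
  Complex.norm_eq_one_of_pow_eq_one (zp_pow hζ j) (NeZero.ne N)

theorem conj_zp (j : ZMod N) : conj (zp hζ j) = zp hζ (-j) := by
  rw [zp_neg, Complex.inv_eq_conj (norm_zp hζ j)]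

/-- The cyclic group of order `N`. -/
abbrev CN (N : ℕ) : Type := Multiplicative (ZMod N)

/-- The linear characters of the cyclic group as homomorphisms. -/
noncomputable def lamHom (j : ZMod N) : CN N →* ℂˣ where
  toFun u := zmodPow (zu hζ) N (zu_pow hζ) (j * Multiplicative.toAdd u)
  map_one' := by
    rw [toAdd_one, mul_zero, zmodPow_zero]
  map_mul' x y := by
    rw [toAdd_mul, mul_add, zmodPow_add]

/-- The linear characters of the cyclic group. -/
noncomputable def lam (j : ZMod N) : IrrCharacter (CN N) :=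
  ⟨fun u => ((lamHom hζ j u : ℂˣ) : ℂ),
    isIrrCharacter_of_linear (Cfsg.Agent.Lib.helper3.Lin.isCharacter_of_hom (lamHom hζ j)) (by
      rw [map_one]; rfl)⟩

theorem lam_apply (j : ZMod N) (u : CN N) :
    (lam hζ j : CN N → ℂ) u = zp hζ (j * Multiplicative.toAdd u) := rfl

theorem lam_injective : Function.Injective (lam hζ) := by
  intro j k h
  have h1 := congrArg (fun l : IrrCharacter (CN N) => (l : CN N → ℂ) (Multiplicative.ofAdd 1)) h
  simp only [lam_apply, toAdd_ofAdd, mul_one] at h1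
  exact zp_injective hζ h1

theorem cn_comm (x y : CN N) : x * y = y * x := mul_comm x y

theorem lam_bijective : Function.Bijective (lam hζ) := by
  rw [Fintype.bijective_iff_injective_and_card]
  refine ⟨lam_injective hζ, ?_⟩
  rw [card_irr_of_comm cn_comm, Nat.card_eq_fintype_card]
  exact (Fintype.card_congr Multiplicative.toAdd).symm

theorem sum_irr_eq_sum_lam (F : IrrCharacter (CN N) → ℂ) :
    ∑ l : IrrCharacter (CN N), F l = ∑ j : ZMod N, F (lam hζ j) :=
  ((lam_bijective hζ).sum_comp F).symm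

theorem lam_inv (j : ZMod N) :
    (fun u : CN N => (lam hζ j : CN N → ℂ) u⁻¹) = (lam hζ (-j) : CN N → ℂ) := by
  funext u
  rw [lam_apply, lam_apply, toAdd_inv]
  congr 1
  ring

theorem lam_zero : (lam hζ 0 : CN N → ℂ) = fun _ => 1 := by
  funext u
  rw [lam_apply, zero_mul, zp_zero]

/-- The sum of the values of the linear characters. -/
theorem sum_zp_mul {l : ZMod N} (hl : l ≠ 0) : ∑ j : ZMod N, zp hζ (j * l) = 0 := by
  have h := Cfsg.Agent.Lib.helper3.CentType.column_orthogonality_comm (Q := CN N) cn_comm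
    (Multiplicative.ofAdd l) 1
  rw [if_neg (by
    intro h'
    apply hl
    have := congrArg Multiplicative.toAdd h'
    simpa using this), sum_irr_eq_sum_lam hζ] at h
  rw [← h]
  apply Finset.sum_congr rfl
  intro j _
  rw [lam_apply, lam_apply, toAdd_ofAdd, toAdd_one, mul_zero, zp_zero, map_one, mul_one]

end roots

end Cfsg.Agent.H2.Dih
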