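import Mathlib
import Cfsg.Prelude.Def_Characters
import Cfsg.Agent.H2.Dih.C1

set_option autoImplicit false
set_option linter.style.haveILetI false
set_option linter.unusedSectionVars false
set_option linter.unusedVariables false

/-!
# Fourier analysis on a cyclic group, with a kernel symmetric under inversion
-/

namespace Cfsg.Agent.H2.Dih

open Cfsg Cfsg.Agent.Lib.helper3.Irr Cfsg.Agent.Lib.helper3.IndFun
open Cfsg.Agent.Lib.helper3.CharBasic Cfsg.Agent.H1 Cfsg.Agent.H2.Hom2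
open scoped ComplexConjugate

section kernel2

variable {P : Type*} [Group P] [Fintype P] [DecidableEq P] {ι : Type*} [Fintype ι]
  (f : ι → P → ℂ) (D : ℂ)

/-- The hypothesis on the kernel: it is `|P|` on the pairs `(u, u)` and `(u, u⁻¹)`, and `D` at
`(1, 1)`. -/
def KerHyp2 : Prop :=
  ∀ u u' : P, ker2 f u u' = (Nat.card P : ℂ) * ((if u' = u then 1 else 0) +
    (if u' = u⁻¹ then 1 else 0)) +
    (if u = 1 ∧ u' = 1 then D - 2 * (Nat.card P : ℂ) else 0)

variable {f D}

theorem KerHyp2.inner_sum (h : KerHyp2 f D) (ψ : P → ℂ) (u : P) :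
    ∑ u', ψ u' * ker2 f u u' = (Nat.card P : ℂ) * (ψ u + ψ u⁻¹) +
      (if u = 1 then (D - 2 * (Nat.card P : ℂ)) * ψ 1 else 0) := by
  have h1 : ∀ u', ψ u' * ker2 f u u' =
      (Nat.card P : ℂ) * ((if u' = u then ψ u' else 0) + (if u' = u⁻¹ then ψ u' else 0)) +
      (if u' = 1 then (if u = 1 then (D - 2 * (Nat.card P : ℂ)) * ψ 1 else 0) else 0) := by
    intro u'
    rw [h u u']
    by_cases hu1 : u = 1
    · by_cases hu'1 : u' = 1
      · subst hu1 hu'1
        simp only [and_self, if_true]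
        split_ifs <;> ring
      · simp only [hu'1, and_false, if_false]
        split_ifs <;> ring
    · simp only [hu1, false_and, if_false]
      split_ifs <;> ring
  rw [Finset.sum_congr rfl (fun u' _ => h1 u'), Finset.sum_add_distrib, ← Finset.mul_sum,
    Finset.sum_add_distrib, Finset.sum_ite_eq', Finset.sum_ite_eq', Finset.sum_ite_eq']
  simp only [Finset.mem_univ, if_true]

theorem KerHyp2.gram [Nonempty P] (h : KerHyp2 f D) (φ ψ : P → ℂ) :
    ∑ i, classInner (f i) φ * classInner ψ (f i) =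
      classInner ψ φ + classInner (fun u => ψ u⁻¹) φ +
        ((Nat.card P : ℂ)⁻¹) ^ 2 * (D - 2 * (Nat.card P : ℂ)) * conj (φ 1) * ψ 1 := by
  rw [sum_classInner_mul]
  have hq : (Nat.card P : ℂ) ≠ 0 := by
    have : Nat.card P ≠ 0 := Nat.card_pos.ne'
    exact_mod_cast this
  have h1 : ∀ u, ∑ u', conj (φ u) * ψ u' * ker2 f u u' =
      (Nat.card P : ℂ) * (ψ u * conj (φ u) + ψ u⁻¹ * conj (φ u)) +
      (if u = 1 then (D - 2 * (Nat.card P : ℂ)) * conj (φ 1) * ψ 1 else 0) := by
    intro u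
    have : ∀ u', conj (φ u) * ψ u' * ker2 f u u' = conj (φ u) * (ψ u' * ker2 f u u') :=
      fun u' => by ring
    rw [Finset.sum_congr rfl (fun u' _ => this u'), ← Finset.mul_sum, h.inner_sum ψ u]
    by_cases hu : u = 1
    · subst hu
      simp only [if_true]
      ring
    · simp only [hu, if_false]
      ring
  rw [Finset.sum_congr rfl (fun u _ => h1 u), Finset.sum_add_distrib, ← Finset.mul_sum,
    Finset.sum_add_distrib, Finset.sum_ite_eq']
  simp only [Finset.mem_univ, if_true, classInner_apply]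
  field_simp

/-- A weighted sum of the multiplicities. -/
theorem sum_mul_classInner (f : ι → P → ℂ) (g : ι → ℂ) (ψ : P → ℂ)
    (hg : ∀ u, u ≠ 1 → ∑ i, g i * conj (f i u) = 0) :
    ∑ i, g i * classInner ψ (f i) = (Nat.card P : ℂ)⁻¹ * ψ 1 * ∑ i, g i * conj (f i 1) := by
  simp only [classInner_apply]
  have h1 : ∀ i, g i * ((Nat.card P : ℂ)⁻¹ * ∑ u, ψ u * conj (f i u)) =
      ∑ u, (Nat.card P : ℂ)⁻¹ * (ψ u * (g i * conj (f i u))) := by
    intro i
    rw [Finset.mul_sum, Finset.mul_sum]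
    apply Finset.sum_congr rfl
    intro u _
    ring
  rw [Finset.sum_congr rfl (fun i _ => h1 i), Finset.sum_comm]
  have h2 : ∀ u, ∑ i, (Nat.card P : ℂ)⁻¹ * (ψ u * (g i * conj (f i u))) =
      (Nat.card P : ℂ)⁻¹ * (ψ u * ∑ i, g i * conj (f i u)) := by
    intro u
    rw [Finset.mul_sum, Finset.mul_sum]
  rw [Finset.sum_congr rfl (fun u _ => h2 u), Finset.sum_eq_single (1 : P)]
  · ring
  · intro u _ hu
    rw [hg u hu, mul_zero, mul_zero]
  · intro h
    exact absurd (Finset.mem_univ _) h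

end kernel2

section cyclic

variable {N : ℕ} [NeZero N] {ζ : ℂ} (hζ : IsPrimitiveRoot ζ N) {ι : Type*} [Fintype ι]
  {f : ι → CN N → ℂ} (hchar : ∀ i, IsCharacter (CN N) (f i)) {D : ℂ}

/-- The multiplicity of the `j`-th linear character. -/
noncomputable def mult (i : ι) (j : ZMod N) : ℤ := coef hchar i (lam hζ j)

theorem mult_nonneg (i : ι) (j : ZMod N) : 0 ≤ mult hζ hchar i j := coef_nonneg hchar i _

theorem apply_eq_sum_mult (i : ι) (u : CN N) :
    f i u = ∑ j : ZMod N, ((mult hζ hchar i j : ℤ) : ℂ) * zp hζ (j * Multiplicative.toAdd u) := by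
  rw [apply_eq_sum_coef hchar i u, sum_irr_eq_sum_lam hζ]
  rfl

theorem card_cn : (Nat.card (CN N) : ℂ) = (N : ℂ) := by
  rw [Nat.card_eq_fintype_card, Fintype.card_congr Multiplicative.toAdd, ZMod.card]

theorem gram_mult (h : KerHyp2 f D) (j j' : ZMod N) :
    ((∑ i, mult hζ hchar i j * mult hζ hchar i j' : ℤ) : ℂ) =
      (((if j' = j then 1 else 0 : ℤ)) : ℂ) + (((if -j' = j then 1 else 0 : ℤ)) : ℂ) +
        ((N : ℂ)⁻¹) ^ 2 * (D - 2 * (N : ℂ)) := by
  have hg := h.gram (lam hζ j : CN N → ℂ) (lam hζ j' : CN N → ℂ)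
  rw [lam_inv, classInner_irr, classInner_irr, lam_apply, lam_apply, toAdd_one, mul_zero,
    mul_zero, zp_zero, map_one, mul_one, mul_one, card_cn] at hg
  have e1 : (((if lam hζ j' = lam hζ j then 1 else 0 : ℤ)) : ℂ) =
      (((if j' = j then 1 else 0 : ℤ)) : ℂ) := by
    by_cases hjj : j' = j
    · rw [if_pos hjj, if_pos (by rw [hjj])]
    · rw [if_neg hjj, if_neg (fun h' => hjj (lam_injective hζ h'))]
  have e2 : (((if lam hζ (-j') = lam hζ j then 1 else 0 : ℤ)) : ℂ) =
      (((if -j' = j then 1 else 0 : ℤ)) : ℂ) := by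
    by_cases hjj : -j' = j
    · rw [if_pos hjj, if_pos (by rw [hjj])]
    · rw [if_neg hjj, if_neg (fun h' => hjj (lam_injective hζ h'))]
  rw [e1, e2] at hg
  rw [← hg]
  push_cast
  apply Finset.sum_congr rfl
  intro i _
  unfold mult
  rw [coef_spec hchar i (lam hζ j), coef_spec' hchar i (lam hζ j')]

theorem weighted_mult (g : ι → ℂ)
    (hg : ∀ u : CN N, u ≠ 1 → ∑ i, g i * conj (f i u) = 0) (j : ZMod N) :
    ∑ i, g i * ((mult hζ hchar i j : ℤ) : ℂ) = (N : ℂ)⁻¹ * ∑ i, g i * conj (f i 1) := by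
  have h := sum_mul_classInner f g (lam hζ j : CN N → ℂ) hg
  rw [lam_apply, toAdd_one, mul_zero, zp_zero, mul_one, card_cn] at h
  rw [← h]
  apply Finset.sum_congr rfl
  intro i _
  unfold mult
  rw [coef_spec' hchar i (lam hζ j)]

end cyclic

end Cfsg.Agent.H2.Dih
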