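import Mathlib
import Cfsg.Agent.H2.Hom2.C2
import Cfsg.Agent.Lib.helper3.NormOne

set_option autoImplicit false
set_option linter.style.haveILetI false
set_option linter.unusedSectionVars false
set_option linter.unusedVariables false

/-!
# Integer vectors: auxiliary lemmas for the dihedral lattice argument
-/

namespace Cfsg.Agent.H2.Dih

open Cfsg.Agent.Lib.helper3.Irr Cfsg.Agent.H2.Hom2

variable {B : Type*} [Fintype B] [DecidableEq B]

theorem ip_combo1 (x u : B → ℤ) (c1 : ℤ) (A1 : B) (hu : ∀ i, u i = c1 * ind A1 i) :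
    ip x u = c1 * x A1 := by
  rw [ip_comm]
  unfold ip
  have : ∀ i, u i * x i = c1 * (ind A1 i * x i) := fun i => by rw [hu]; ring
  rw [Finset.sum_congr rfl (fun i _ => this i), ← Finset.mul_sum, sum_ind_mul]

theorem ip_combo2 (x u : B → ℤ) (c1 c2 : ℤ) (A1 A2 : B)
    (hu : ∀ i, u i = c1 * ind A1 i + c2 * ind A2 i) :
    ip x u = c1 * x A1 + c2 * x A2 := by
  rw [ip_comm]
  unfold ip
  have : ∀ i, u i * x i = c1 * (ind A1 i * x i) + c2 * (ind A2 i * x i) :=
    fun i => by rw [hu]; ring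
  rw [Finset.sum_congr rfl (fun i _ => this i), Finset.sum_add_distrib, ← Finset.mul_sum,
    ← Finset.mul_sum, sum_ind_mul, sum_ind_mul]

theorem ip_combo3 (x u : B → ℤ) (c1 c2 c3 : ℤ) (A1 A2 A3 : B)
    (hu : ∀ i, u i = c1 * ind A1 i + c2 * ind A2 i + c3 * ind A3 i) :
    ip x u = c1 * x A1 + c2 * x A2 + c3 * x A3 := by
  rw [ip_comm]
  unfold ip
  have : ∀ i, u i * x i = c1 * (ind A1 i * x i) + c2 * (ind A2 i * x i) +
      c3 * (ind A3 i * x i) := fun i => by rw [hu]; ring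
  rw [Finset.sum_congr rfl (fun i _ => this i), Finset.sum_add_distrib, Finset.sum_add_distrib,
    ← Finset.mul_sum, ← Finset.mul_sum, ← Finset.mul_sum, sum_ind_mul, sum_ind_mul, sum_ind_mul]

theorem ip_combo4 (x u : B → ℤ) (c1 c2 c3 c4 : ℤ) (A1 A2 A3 A4 : B)
    (hu : ∀ i, u i = c1 * ind A1 i + c2 * ind A2 i + c3 * ind A3 i + c4 * ind A4 i) :
    ip x u = c1 * x A1 + c2 * x A2 + c3 * x A3 + c4 * x A4 := by
  rw [ip_comm]
  unfold ip
  have : ∀ i, u i * x i = c1 * (ind A1 i * x i) + c2 * (ind A2 i * x i) +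
      c3 * (ind A3 i * x i) + c4 * (ind A4 i * x i) := fun i => by rw [hu]; ring
  rw [Finset.sum_congr rfl (fun i _ => this i), Finset.sum_add_distrib, Finset.sum_add_distrib,
    Finset.sum_add_distrib, ← Finset.mul_sum, ← Finset.mul_sum, ← Finset.mul_sum,
    ← Finset.mul_sum, sum_ind_mul, sum_ind_mul, sum_ind_mul, sum_ind_mul]

theorem ip_self_eq_sum_sq (y : B → ℤ) : ip y y = ∑ i, y i ^ 2 := by
  unfold ip
  exact Finset.sum_congr rfl (fun i _ => by ring)

theorem sq_le_ip_self (y : B → ℤ) (b : B) : y b * y b ≤ ip y y := by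
  unfold ip
  exact Finset.single_le_sum (f := fun i => y i * y i) (fun i _ => mul_self_nonneg _)
    (Finset.mem_univ b)

theorem three_sq_le_ip_self (y : B → ℤ) {b1 b2 b3 : B} (h12 : b1 ≠ b2) (h13 : b1 ≠ b3)
    (h23 : b2 ≠ b3) : y b1 * y b1 + y b2 * y b2 + y b3 * y b3 ≤ ip y y := by
  unfold ip
  have hsub : ({b1, b2, b3} : Finset B) ⊆ Finset.univ := Finset.subset_univ _
  have h := Finset.sum_le_sum_of_subset_of_nonneg (f := fun i => y i * y i) hsub
    (fun i _ _ => mul_self_nonneg _)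
  rw [Finset.sum_insert (by simp [h12, h13]), Finset.sum_insert (by simp [h23]),
    Finset.sum_singleton] at h
  linarith

/-- A vector of norm two. -/
theorem norm_two_struct (y : B → ℤ) (h : ip y y = 2) :
    ∃ (b1 b2 : B) (e1 e2 : ℤ), b1 ≠ b2 ∧ (e1 = 1 ∨ e1 = -1) ∧ (e2 = 1 ∨ e2 = -1) ∧
      ∀ i, y i = e1 * ind b1 i + e2 * ind b2 i := by
  rw [ip_self_eq_sum_sq] at h
  obtain ⟨b1, b2, h12, h1, h2, hrest⟩ := int_sq_sum_two y h
  refine ⟨b1, b2, y b1, y b2, h12, h1, h2, ?_⟩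
  intro i
  by_cases hi1 : i = b1
  · subst hi1
    rw [ind_self, ind_ne h12]; ring
  · by_cases hi2 : i = b2
    · subst hi2
      rw [ind_self, ind_ne hi1]; ring
    · rw [hrest i hi1 hi2, ind_ne hi1, ind_ne hi2]; ring

/-- A vector of norm one. -/
theorem norm_one_struct (y : B → ℤ) (h : ip y y = 1) :
    ∃ (b1 : B) (e1 : ℤ), (e1 = 1 ∨ e1 = -1) ∧ ∀ i, y i = e1 * ind b1 i := by
  rw [ip_self_eq_sum_sq] at h
  obtain ⟨b1, h1, hrest⟩ := int_sq_sum_one y h
  refine ⟨b1, y b1, h1, ?_⟩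
  intro i
  by_cases hi1 : i = b1
  · subst hi1
    rw [ind_self]; ring
  · rw [hrest i hi1, ind_ne hi1]; ring

theorem ip_add_left (x y z : B → ℤ) : ip (x + y) z = ip x z + ip y z := by
  unfold ip
  rw [← Finset.sum_add_distrib]
  exact Finset.sum_congr rfl (fun i _ => by rw [Pi.add_apply]; ring)

theorem ip_add_right (x y z : B → ℤ) : ip x (y + z) = ip x y + ip x z := by
  rw [ip_comm, ip_add_left, ip_comm y, ip_comm z]

theorem sign_mul_self {e : ℤ} (he : e = 1 ∨ e = -1) : e * e = 1 := by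
  rcases he with rfl | rfl <;> norm_num

theorem sign_ne_zero {e : ℤ} (he : e = 1 ∨ e = -1) : e ≠ 0 := by
  rcases he with rfl | rfl <;> norm_num

end Cfsg.Agent.H2.Dih
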