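import Mathlib
import Cfsg.Agent.H2.Dih.L1

set_option autoImplicit false
set_option linter.style.haveILetI false
set_option linter.unusedSectionVars false
set_option linter.unusedVariables false

/-!
# The dihedral lattice argument: hypotheses, conclusion, and the deviation identities
-/

namespace Cfsg.Agent.H2.Dih

open Cfsg.Agent.Lib.helper3.Irr Cfsg.Agent.H2.Hom2

variable {B : Type*} [Fintype B] [DecidableEq B] {Λ : Type*}

/-- The hypotheses of the lattice argument. -/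
structure LatHyp (r : Λ → Λ → Prop) [DecidableRel r] (v : Λ → B → ℤ) (a0 ah : B → ℤ) (κ : ℤ)
    (o : B) (d : B → ℤ) : Prop where
  gvv : ∀ l m, ip (v l) (v m) = κ + if r l m then 1 else 0
  rrefl : ∀ l, r l l
  rsymm : ∀ l m, r l m → r m l
  g0v : ∀ l, ip a0 (v l) = κ
  ghv : ∀ l, ip ah (v l) = κ
  g00 : ip a0 a0 = κ + 2
  ghh : ip ah ah = κ + 2
  g0h : ip a0 ah = κ
  vo : ∀ l, v l o = 0
  a0o : a0 o = 1
  aho : ah o = 0
  dpos : ∀ b, 0 < d b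
  do1 : d o = 1
  dv : ∀ l, ip d (v l) = ip d a0
  dh : ip d ah = ip d a0

theorem LatHyp.gvv_self {r : Λ → Λ → Prop} [DecidableRel r] {v : Λ → B → ℤ} {a0 ah : B → ℤ}
    {κ : ℤ} {o : B} {d : B → ℤ} (H : LatHyp r v a0 ah κ o d) (l : Λ) :
    ip (v l) (v l) = κ + 1 := by
  rw [H.gvv, if_pos (H.rrefl l)]

theorem LatHyp.gramHyp {r : Λ → Λ → Prop} [DecidableRel r] {v : Λ → B → ℤ} {a0 ah : B → ℤ}
    {κ : ℤ} {o : B} {d : B → ℤ} (H : LatHyp r v a0 ah κ o d) : GramHyp r v d κ :=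
  ⟨H.gvv, H.dpos, fun l m => by rw [H.dv l, H.dv m], H.rrefl, H.rsymm⟩

/-- The conclusion of the lattice argument. -/
def LatConcl (r : Λ → Λ → Prop) (v : Λ → B → ℤ) (a0 ah : B → ℤ) (o : B) : Prop :=
  ∃ (δ : B → ℤ) (ε ε₁ ε₂ ε₃ : ℤ) (X : Λ → B) (χ₁ χ₂ χ₃ : B),
    (ε = 1 ∨ ε = -1) ∧ (ε₁ = 1 ∨ ε₁ = -1) ∧ (ε₂ = 1 ∨ ε₂ = -1) ∧ (ε₃ = 1 ∨ ε₃ = -1) ∧
    (∀ l b, v l b = δ b + ε * ind (X l) b) ∧ (∀ m n, X m = X n ↔ r m n) ∧
    (∀ b, a0 b = δ b + ind o b + ε₁ * ind χ₁ b) ∧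
    (∀ b, ah b = δ b + ε₂ * ind χ₂ b + ε₃ * ind χ₃ b) ∧
    χ₁ ≠ o ∧ χ₂ ≠ o ∧ χ₃ ≠ o ∧ χ₁ ≠ χ₂ ∧ χ₁ ≠ χ₃ ∧ χ₂ ≠ χ₃ ∧
    (∀ l, X l ≠ o ∧ X l ≠ χ₁ ∧ X l ≠ χ₂ ∧ X l ≠ χ₃)

section dev

variable {v : Λ → B → ℤ} {δ : B → ℤ} {ε : ℤ} {X : Λ → B} {κ : ℤ}

theorem ip_sub_sub (y y' w : B → ℤ) :
    ip (y - w) (y' - w) = ip y y' - ip y w - ip y' w + ip w w := by
  rw [ip_sub_left, ip_sub_right, ip_sub_right, ip_comm w y']
  ring

/-- The norm of the deviation of a special vector. -/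
theorem dev_norm (hε : ε = 1 ∨ ε = -1) (hv : ∀ l b, v l b = δ b + ε * ind (X l) b)
    (hvv : ∀ l, ip (v l) (v l) = κ + 1) (Y : B → ℤ) (hYv : ∀ l, ip Y (v l) = κ)
    (hYY : ip Y Y = κ + 2) (l : Λ) :
    ip (Y - δ) (Y - δ) = 2 + 2 * (ε * (Y - δ) (X l)) := by
  have hε2 := sign_mul_self hε
  have h1 : ip (Y - v l) (Y - v l) = 3 := by
    rw [ip_sub_left, ip_sub_right, ip_sub_right, hYY, hYv, ip_comm (v l) Y, hYv, hvv]
    ring
  obtain ⟨w, hw⟩ : ∃ w : B → ℤ, w = fun b => ε * ind (X l) b := ⟨_, rfl⟩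
  have hw' : ∀ i, w i = ε * ind (X l) i := fun i => by rw [hw]
  have h2 : Y - v l = (Y - δ) - w := by
    funext b
    simp only [Pi.sub_apply]
    rw [hv l b, hw' b]
    ring
  rw [h2, ip_sub_sub, ip_combo1 (Y - δ) w ε (X l) hw', ip_combo1 w w ε (X l) hw', hw' (X l),
    ind_self] at h1
  linarith

/-- The inner product of the deviations of two special vectors. -/
theorem dev_cross (hε : ε = 1 ∨ ε = -1) (hv : ∀ l b, v l b = δ b + ε * ind (X l) b)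
    (hvv : ∀ l, ip (v l) (v l) = κ + 1) (Y Y' : B → ℤ) (hYv : ∀ l, ip Y (v l) = κ)
    (hY'v : ∀ l, ip Y' (v l) = κ) (hYY' : ip Y Y' = κ) (l : Λ) :
    ip (Y - δ) (Y' - δ) = ε * (Y - δ) (X l) + ε * (Y' - δ) (X l) := by
  have hε2 := sign_mul_self hε
  have h1 : ip (Y - v l) (Y' - v l) = 1 := by
    rw [ip_sub_left, ip_sub_right, ip_sub_right, hYY', hYv, ip_comm (v l) Y', hY'v, hvv]
    ring
  obtain ⟨w, hw⟩ : ∃ w : B → ℤ, w = fun b => ε * ind (X l) b := ⟨_, rfl⟩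
  have hw' : ∀ i, w i = ε * ind (X l) i := fun i => by rw [hw]
  have h2 : Y - v l = (Y - δ) - w := by
    funext b
    simp only [Pi.sub_apply]
    rw [hv l b, hw' b]
    ring
  have h3 : Y' - v l = (Y' - δ) - w := by
    funext b
    simp only [Pi.sub_apply]
    rw [hv l b, hw' b]
    ring
  rw [h2, h3, ip_sub_sub, ip_combo1 (Y - δ) w ε (X l) hw', ip_combo1 (Y' - δ) w ε (X l) hw',
    ip_combo1 w w ε (X l) hw', hw' (X l), ind_self] at h1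
  linarith

/-- The degree sum of the deviation of a special vector. -/
theorem dev_degree (hv : ∀ l b, v l b = δ b + ε * ind (X l) b) (d : B → ℤ) (Y : B → ℤ) (l : Λ)
    (hY : ip d Y = ip d (v l)) : ip d (Y - δ) = ε * d (X l) := by
  obtain ⟨w, hw⟩ : ∃ w : B → ℤ, w = fun b => ε * ind (X l) b := ⟨_, rfl⟩
  have hw' : ∀ i, w i = ε * ind (X l) i := fun i => by rw [hw]
  have h2 : v l = δ + w := by
    funext b
    simp only [Pi.add_apply]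
    rw [hv l b, hw' b]
  rw [h2, ip_add_right, ip_combo1 d w ε (X l) hw'] at hY
  rw [ip_sub_right]
  linarith

/-- Four coordinates of absolute value one exhaust a vector of norm four. -/
theorem eq_of_four_coords (y : B → ℤ) (hn : ip y y = 4) {b1 b2 b3 b4 : B} (h12 : b1 ≠ b2)
    (h13 : b1 ≠ b3) (h14 : b1 ≠ b4) (h23 : b2 ≠ b3) (h24 : b2 ≠ b4) (h34 : b3 ≠ b4)
    (h1 : y b1 ≠ 0) (h2 : y b2 ≠ 0) (h3 : y b3 ≠ 0) (h4 : y b4 ≠ 0) :
    ∀ i, y i = y b1 * ind b1 i + y b2 * ind b2 i + y b3 * ind b3 i + y b4 * ind b4 i := by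
  intro i
  by_cases hi1 : i = b1
  · subst hi1
    rw [ind_self, ind_ne h12, ind_ne h13, ind_ne h14]; ring
  by_cases hi2 : i = b2
  · subst hi2
    rw [ind_self, ind_ne hi1, ind_ne h23, ind_ne h24]; ring
  by_cases hi3 : i = b3
  · subst hi3
    rw [ind_self, ind_ne hi1, ind_ne hi2, ind_ne h34]; ring
  by_cases hi4 : i = b4
  · subst hi4
    rw [ind_self, ind_ne hi1, ind_ne hi2, ind_ne hi3]; ring
  rw [ind_ne hi1, ind_ne hi2, ind_ne hi3, ind_ne hi4]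
  by_contra hne
  have hi0 : y i ≠ 0 := by
    intro h0
    apply hne
    rw [h0]; ring
  have := five_le_ip_self y i b1 b2 b3 b4 hi1 hi2 hi3 hi4 h12 h13 h14 h23 h24 h34 hi0 h1 h2 h3 h4
  omega

end dev

end Cfsg.Agent.H2.Dih
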