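import Mathlib
import Cfsg.Agent.H2.Dih.L2

set_option autoImplicit false
set_option linter.style.haveILetI false
set_option linter.unusedSectionVars false
set_option linter.unusedVariables false
set_option maxHeartbeats 800000

/-!
# The dihedral lattice argument: at least three generic classes
-/

namespace Cfsg.Agent.H2.Dih

open Cfsg.Agent.Lib.helper3.Irr Cfsg.Agent.H2.Hom2

variable {B : Type*} [Fintype B] [DecidableEq B] {Λ : Type*}

theorem t_cases {ε : ℤ} (hε : ε = 1 ∨ ε = -1) (y : B → ℤ) {b1 b2 b3 : B} (h12 : b1 ≠ b2)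
    (h13 : b1 ≠ b3) (h23 : b2 ≠ b3) (t : ℤ) (h1 : ε * y b1 = t) (h2 : ε * y b2 = t)
    (h3 : ε * y b3 = t) (hn : ip y y = 2 + 2 * t) : t = 0 ∨ t = 1 := by
  have hε2 := sign_mul_self hε
  have hsq : ∀ b, ε * y b = t → y b * y b = t * t := by
    intro b hb
    rw [← hb]
    calc y b * y b = (ε * ε) * (y b * y b) := by rw [hε2, one_mul]
      _ = ε * y b * (ε * y b) := by ring
  have h := three_sq_le_ip_self y h12 h13 h23
  rw [hsq b1 h1, hsq b2 h2, hsq b3 h3, hn] at h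
  have ht1 : t ≤ 1 := by nlinarith
  have ht0 : 0 ≤ t := by nlinarith
  omega

theorem eq_sign_of_mul_eq_one {ε x : ℤ} (hε : ε = 1 ∨ ε = -1) (h : ε * x = 1) : x = ε := by
  rcases hε with rfl | rfl <;> omega

theorem eq_zero_of_sign_mul {ε x : ℤ} (hε : ε = 1 ∨ ε = -1) (h : ε * x = 0) : x = 0 := by
  rcases hε with rfl | rfl <;> omega

/-- The lattice argument when there are at least three generic classes. -/
theorem lat_of_three {r : Λ → Λ → Prop} [DecidableRel r] {v : Λ → B → ℤ} {a0 ah : B → ℤ}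
    {κ : ℤ} {o : B} {d : B → ℤ}
    (H : LatHyp r v a0 ah κ o d) {l1 l2 l3 : Λ} (h12 : ¬ r l1 l2) (h13 : ¬ r l1 l3)
    (h23 : ¬ r l2 l3) : LatConcl r v a0 ah o := by
  classical
  have hG : GramHyp r v d κ := H.gramHyp
  obtain ⟨ε, δ, X, hε, hv, hX⟩ := hG.structure h12 h13 h23
  have hε2 := sign_mul_self hε
  have hε0 := sign_ne_zero hε
  -- `X l ≠ o`, `δ o = 0`
  have hXo : ∀ l, X l ≠ o := by
    intro l hl
    obtain ⟨m, hm⟩ : ∃ m, ¬ r m l := by
      by_cases h : r l1 l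
      · refine ⟨l2, fun h' => h12 ?_⟩
        rw [← hX] at h h' ⊢
        exact h.trans h'.symm
      · exact ⟨l1, h⟩
    have e1 := hv l o
    rw [H.vo, hl, ind_self] at e1
    have e2 := hv m o
    have hne : X m ≠ o := fun h' => hm ((hX m l).mp (h'.trans hl.symm))
    rw [H.vo, ind_ne (fun h' => hne h'.symm)] at e2
    rcases hε with rfl | rfl <;> omega
  have hδo : δ o = 0 := by
    have e1 := hv l1 o
    rw [H.vo, ind_ne (fun h' => hXo l1 h'.symm)] at e1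
    omega
  have hX12 : X l1 ≠ X l2 := fun h => h12 ((hX _ _).mp h)
  have hX13 : X l1 ≠ X l3 := fun h => h13 ((hX _ _).mp h)
  have hX23 : X l2 ≠ X l3 := fun h => h23 ((hX _ _).mp h)
  -- degrees
  have hdX : ∀ l, d (X l) = d (X l1) := by
    intro l
    have e1 := dev_degree hv d a0 l (H.dv l).symm
    have e2 := dev_degree hv d a0 l1 (H.dv l1).symm
    have : ε * d (X l) = ε * d (X l1) := by rw [← e1, ← e2]
    exact mul_left_cancel₀ hε0 this
  obtain ⟨dd, hdd⟩ : ∃ dd, dd = d (X l1) := ⟨_, rfl⟩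
  have hddpos : 0 < dd := by rw [hdd]; exact H.dpos _
  have hd0 : ip d (a0 - δ) = ε * dd := by
    rw [hdd]; exact dev_degree hv d a0 l1 (H.dv l1).symm
  have hdh : ip d (ah - δ) = ε * dd := by
    rw [hdd]; exact dev_degree hv d ah l1 (by rw [H.dh, H.dv l1])
  -- the deviation of `a0`
  obtain ⟨y0, hy0def⟩ : ∃ y0 : B → ℤ, y0 = a0 - δ := ⟨_, rfl⟩
  rw [← hy0def] at hd0
  have hy0o : y0 o = 1 := by rw [hy0def, Pi.sub_apply, H.a0o, hδo]; ring
  have hN0 : ∀ l, ip y0 y0 = 2 + 2 * (ε * y0 (X l)) := by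
    intro l; rw [hy0def]; exact dev_norm hε hv H.gvv_self a0 H.g0v H.g00 l
  obtain ⟨t0, ht0def⟩ : ∃ t0, t0 = ε * y0 (X l1) := ⟨_, rfl⟩
  have ht0 : ∀ l, ε * y0 (X l) = t0 := by
    intro l
    have e1 := hN0 l
    have e2 := hN0 l1
    rw [ht0def]; linarith
  have hn0 : ip y0 y0 = 2 + 2 * t0 := by rw [hN0 l1, ht0def]
  have ht0cases := t_cases hε y0 hX12 hX13 hX23 t0 (ht0 l1) (ht0 l2) (ht0 l3) hn0
  have ht00 : t0 = 0 := by
    rcases ht0cases with h | h
    · exact h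
    · exfalso
      rw [h] at hn0 ht0
      have e1 := eq_sign_of_mul_eq_one hε (ht0 l1)
      have e2 := eq_sign_of_mul_eq_one hε (ht0 l2)
      have e3 := eq_sign_of_mul_eq_one hε (ht0 l3)
      have hform := eq_of_four_coords y0 (by rw [hn0]; norm_num)
        (fun h' => hXo l1 h'.symm) (fun h' => hXo l2 h'.symm) (fun h' => hXo l3 h'.symm)
        hX12 hX13 hX23 (by rw [hy0o]; norm_num) (by rw [e1]; exact hε0) (by rw [e2]; exact hε0)
        (by rw [e3]; exact hε0)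
      rw [hy0o, e1, e2, e3] at hform
      rw [ip_combo4 d y0 1 ε ε ε o (X l1) (X l2) (X l3) hform, H.do1, hdX l2, hdX l3, ← hdd]
        at hd0
      rcases hε with rfl | rfl <;> omega
  rw [ht00] at hn0 ht0
  have hy0X : ∀ l, y0 (X l) = 0 := fun l => eq_zero_of_sign_mul hε (ht0 l)
  obtain ⟨χ₁, ε₁, hε₁, hχ₁o, hy0⟩ : ∃ (χ₁ : B) (ε₁ : ℤ), (ε₁ = 1 ∨ ε₁ = -1) ∧ χ₁ ≠ o ∧
      ∀ i, y0 i = 1 * ind o i + ε₁ * ind χ₁ i := by
    obtain ⟨b1, b2, e1, e2, hb12, he1, he2, hy⟩ := norm_two_struct y0 (by rw [hn0]; norm_num)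
    by_cases hb1 : b1 = o
    · subst hb1
      have := hy b1
      rw [hy0o, ind_self, ind_ne hb12] at this
      have he1' : e1 = 1 := by omega
      subst he1'
      exact ⟨b2, e2, he2, hb12.symm, hy⟩
    · by_cases hb2 : b2 = o
      · subst hb2
        have := hy b2
        rw [hy0o, ind_self, ind_ne hb12.symm] at this
        have he2' : e2 = 1 := by omega
        subst he2'
        exact ⟨b1, e1, he1, hb1, fun i => by rw [hy i]; ring⟩
      · exfalso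
        have := hy o
        rw [hy0o, ind_ne (fun h => hb1 h.symm), ind_ne (fun h => hb2 h.symm)] at this
        omega
  have hε₁0 := sign_ne_zero hε₁
  have hy0χ : y0 χ₁ = ε₁ := by
    rw [hy0 χ₁, ind_self, ind_ne hχ₁o]; ring
  have hXχ₁ : ∀ l, X l ≠ χ₁ := by
    intro l h
    have := hy0X l
    rw [h, hy0χ] at this
    exact hε₁0 this
  -- the deviation of `ah`
  obtain ⟨yh, hyhdef⟩ : ∃ yh : B → ℤ, yh = ah - δ := ⟨_, rfl⟩
  rw [← hyhdef] at hdh
  have hyho : yh o = 0 := by rw [hyhdef, Pi.sub_apply, H.aho, hδo]; ring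
  have hNh : ∀ l, ip yh yh = 2 + 2 * (ε * yh (X l)) := by
    intro l; rw [hyhdef]; exact dev_norm hε hv H.gvv_self ah H.ghv H.ghh l
  obtain ⟨th, hthdef⟩ : ∃ th, th = ε * yh (X l1) := ⟨_, rfl⟩
  have hth : ∀ l, ε * yh (X l) = th := by
    intro l
    have e1 := hNh l
    have e2 := hNh l1
    rw [hthdef]; linarith
  have hnh : ip yh yh = 2 + 2 * th := by rw [hNh l1, hthdef]
  have hthcases := t_cases hε yh hX12 hX13 hX23 th (hth l1) (hth l2) (hth l3) hnh
  have hcross : ε₁ * yh χ₁ = th := by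
    have e1 := dev_cross hε hv H.gvv_self a0 ah H.g0v H.ghv H.g0h l1
    rw [← hy0def, ← hyhdef, hy0X l1, mul_zero, zero_add, hth l1, ip_comm,
      ip_combo2 yh y0 1 ε₁ o χ₁ hy0, hyho] at e1
    linarith
  have hd0' : 1 + ε₁ * d χ₁ = ε * dd := by
    rw [ip_combo2 d y0 1 ε₁ o χ₁ hy0, H.do1] at hd0
    linarith
  have hth0 : th = 0 := by
    rcases hthcases with h | h
    · exact h
    · exfalso
      rw [h] at hnh hth hcross
      have e1 := eq_sign_of_mul_eq_one hε (hth l1)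
      have e2 := eq_sign_of_mul_eq_one hε (hth l2)
      have e3 := eq_sign_of_mul_eq_one hε (hth l3)
      have e4 := eq_sign_of_mul_eq_one hε₁ hcross
      have hform := eq_of_four_coords yh (by rw [hnh]; norm_num)
        hX12 hX13 (hXχ₁ l1) hX23 (hXχ₁ l2) (hXχ₁ l3)
        (by rw [e1]; exact hε0) (by rw [e2]; exact hε0) (by rw [e3]; exact hε0)
        (by rw [e4]; exact hε₁0)
      rw [e1, e2, e3, e4] at hform
      rw [ip_combo4 d yh ε ε ε ε₁ (X l1) (X l2) (X l3) χ₁ hform, hdX l2, hdX l3, ← hdd] at hdh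
      obtain ⟨q, hq⟩ : ∃ q, q = ε₁ * d χ₁ := ⟨_, rfl⟩
      rw [← hq] at hdh hd0'
      rcases hε with rfl | rfl <;> omega
  rw [hth0] at hnh hth hcross
  have hyhX : ∀ l, yh (X l) = 0 := fun l => eq_zero_of_sign_mul hε (hth l)
  have hyhχ₁ : yh χ₁ = 0 := eq_zero_of_sign_mul hε₁ hcross
  obtain ⟨χ₂, χ₃, ε₂, ε₃, h23', hε₂, hε₃, hyh⟩ := norm_two_struct yh (by rw [hnh]; norm_num)
  have hε₂0 := sign_ne_zero hε₂
  have hε₃0 := sign_ne_zero hε₃
  have hyhχ₂ : yh χ₂ = ε₂ := by rw [hyh χ₂, ind_self, ind_ne h23']; ring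
  have hyhχ₃ : yh χ₃ = ε₃ := by rw [hyh χ₃, ind_self, ind_ne h23'.symm]; ring
  have hne2 : ∀ b, yh b = 0 → χ₂ ≠ b := by
    intro b hb h
    rw [← h, hyhχ₂] at hb
    exact hε₂0 hb
  have hne3 : ∀ b, yh b = 0 → χ₃ ≠ b := by
    intro b hb h
    rw [← h, hyhχ₃] at hb
    exact hε₃0 hb
  refine ⟨δ, ε, ε₁, ε₂, ε₃, X, χ₁, χ₂, χ₃, hε, hε₁, hε₂, hε₃, hv, hX, ?_, ?_, hχ₁o,
    hne2 o hyho, hne3 o hyho, (hne2 χ₁ hyhχ₁).symm, (hne3 χ₁ hyhχ₁).symm, h23', ?_⟩
  · intro b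
    have := hy0 b
    rw [hy0def, Pi.sub_apply] at this
    linarith
  · intro b
    have := hyh b
    rw [hyhdef, Pi.sub_apply] at this
    linarith
  · intro l
    exact ⟨hXo l, hXχ₁ l, (hne2 _ (hyhX l)).symm, (hne3 _ (hyhX l)).symm⟩

end Cfsg.Agent.H2.Dih
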