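import Mathlib
import Cfsg.Agent.H2.Dih.L2

set_option autoImplicit false
set_option linter.style.haveILetI false
set_option linter.unusedSectionVars false
set_option linter.unusedVariables false
set_option maxHeartbeats 800000

/-!
# The dihedral lattice argument: a single generic class (Sylow subgroup of order eight)
-/

namespace Cfsg.Agent.H2.Dih

open Cfsg.Agent.Lib.helper3.Irr Cfsg.Agent.H2.Hom2

variable {B : Type*} [Fintype B] [DecidableEq B] {Λ : Type*}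

theorem lat_unique_aux {r : Λ → Λ → Prop} {v : Λ → B → ℤ} {a0 ah : B → ℤ} {o : B} (l0 : Λ)
    (huniq : ∀ l m, r l m) (hveq : ∀ l, v l = v l0)
    (X0 X2 : B → ℤ) (hX0def : ∀ b, a0 b = v l0 b + X0 b) (hX2def : ∀ b, ah b = v l0 b + X2 b)
    {c u : B} {β α : ℤ} (hβ : β = 1 ∨ β = -1) (hα : α = 1 ∨ α = -1) (hcu : c ≠ u) (hco : c ≠ o)
    (huo : u ≠ o) (hX0 : ∀ i, X0 i = 1 * ind o i + β * ind c i + α * ind u i)
    (hX2c : X2 c = β) (hX2u : X2 u = 0) (hX2o : X2 o = 0) (hn2 : ip X2 X2 = 3) :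
    LatConcl r v a0 ah o := by
  have hβ2 := sign_mul_self hβ
  obtain ⟨w, hw⟩ : ∃ w : B → ℤ, w = fun b => β * ind c b := ⟨_, rfl⟩
  have hw' : ∀ i, w i = β * ind c i := fun i => by rw [hw]
  have hn : ip (X2 - w) (X2 - w) = 2 := by
    rw [ip_sub_sub, ip_combo1 X2 w β c hw', ip_combo1 w w β c hw', hw' c, ind_self, hX2c, hn2,
      mul_one, hβ2]
    norm_num
  obtain ⟨b3, b4, e3, e4, h34, he3, he4, hy⟩ := norm_two_struct (X2 - w) hn
  have he30 := sign_ne_zero he3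
  have he40 := sign_ne_zero he4
  have hy3 : (X2 - w) b3 = e3 := by rw [hy b3, ind_self, ind_ne h34]; ring
  have hy4 : (X2 - w) b4 = e4 := by rw [hy b4, ind_self, ind_ne h34.symm]; ring
  have hyc : (X2 - w) c = 0 := by rw [Pi.sub_apply, hw' c, ind_self, hX2c]; ring
  have hyo : (X2 - w) o = 0 := by
    rw [Pi.sub_apply, hw' o, ind_ne hco.symm, hX2o]; ring
  have hyu : (X2 - w) u = 0 := by
    rw [Pi.sub_apply, hw' u, ind_ne hcu.symm, hX2u]; ring
  have hne3 : ∀ b, (X2 - w) b = 0 → b3 ≠ b := by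
    intro b hb h
    rw [← h, hy3] at hb
    exact he30 hb
  have hne4 : ∀ b, (X2 - w) b = 0 → b4 ≠ b := by
    intro b hb h
    rw [← h, hy4] at hb
    exact he40 hb
  refine ⟨fun b => v l0 b + β * ind c b, -β, α, e3, e4, fun _ => c, u, b3, b4, ?_, hα, he3, he4,
    ?_, ?_, ?_, ?_, huo, hne3 o hyo, hne4 o hyo, (hne3 u hyu).symm, (hne4 u hyu).symm, h34, ?_⟩
  · rcases hβ with rfl | rfl <;> simp
  · intro l b
    rw [hveq l]
    ring
  · intro l m
    exact ⟨fun _ => huniq l m, fun _ => rfl⟩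
  · intro b
    rw [hX0def b, hX0 b]
    ring
  · intro b
    have := hy b
    rw [Pi.sub_apply, hw' b] at this
    rw [hX2def b]
    linarith
  · intro l
    exact ⟨hco, hcu, (hne3 c hyc).symm, (hne4 c hyc).symm⟩

theorem abs_le_one_of_sq_le_three {x : ℤ} (h : x * x ≤ 3) : -1 ≤ x ∧ x ≤ 1 := by
  constructor <;> nlinarith

/-- The lattice argument when there is exactly one generic class. -/
theorem lat_of_unique {r : Λ → Λ → Prop} [DecidableRel r] {v : Λ → B → ℤ} {a0 ah : B → ℤ}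
    {κ : ℤ} {o : B} {d : B → ℤ}
    (H : LatHyp r v a0 ah κ o d) (l0 : Λ) (huniq : ∀ l m, r l m) : LatConcl r v a0 ah o := by
  classical
  have hveq : ∀ l, v l = v l0 := fun l => H.gramHyp.eq_of_r (huniq l l0)
  obtain ⟨X0, hX0def⟩ : ∃ X0 : B → ℤ, X0 = a0 - v l0 := ⟨_, rfl⟩
  obtain ⟨X2, hX2def⟩ : ∃ X2 : B → ℤ, X2 = ah - v l0 := ⟨_, rfl⟩
  have hn0 : ip X0 X0 = 3 := by
    rw [hX0def, ip_sub_sub, H.g00, H.g0v, H.gvv_self]; ring
  have hn2 : ip X2 X2 = 3 := by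
    rw [hX2def, ip_sub_sub, H.ghh, H.ghv, H.gvv_self]; ring
  have hn02 : ip X0 X2 = 1 := by
    rw [hX0def, hX2def, ip_sub_sub, H.g0h, H.g0v, H.ghv, H.gvv_self]; ring
  have hX0o : X0 o = 1 := by rw [hX0def, Pi.sub_apply, H.a0o, H.vo]; ring
  have hX2o : X2 o = 0 := by rw [hX2def, Pi.sub_apply, H.aho, H.vo]; ring
  have hX0' : ∀ b, a0 b = v l0 b + X0 b := fun b => by rw [hX0def, Pi.sub_apply]; ring
  have hX2' : ∀ b, ah b = v l0 b + X2 b := fun b => by rw [hX2def, Pi.sub_apply]; ring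
  obtain ⟨w, hw⟩ : ∃ w : B → ℤ, w = fun b => 1 * ind o b := ⟨_, rfl⟩
  have hw' : ∀ i, w i = 1 * ind o i := fun i => by rw [hw]
  have hn : ip (X0 - w) (X0 - w) = 2 := by
    rw [ip_sub_sub, ip_combo1 X0 w 1 o hw', ip_combo1 w w 1 o hw', hw' o, ind_self, hX0o, hn0]
    norm_num
  obtain ⟨b1, b2, e1, e2, h12, he1, he2, hy⟩ := norm_two_struct (X0 - w) hn
  have he10 := sign_ne_zero he1
  have he20 := sign_ne_zero he2
  have hyo : (X0 - w) o = 0 := by rw [Pi.sub_apply, hw' o, ind_self, hX0o]; ring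
  have hb1o : b1 ≠ o := by
    intro h
    have := hy o
    rw [hyo, ← h, ind_self, ind_ne h12] at this
    apply he10
    linarith
  have hb2o : b2 ≠ o := by
    intro h
    have := hy o
    rw [hyo, ← h, ind_self, ind_ne h12.symm] at this
    apply he20
    linarith
  have hX0 : ∀ i, X0 i = 1 * ind o i + e1 * ind b1 i + e2 * ind b2 i := by
    intro i
    have := hy i
    rw [Pi.sub_apply, hw' i] at this
    linarith
  have hcross : e1 * X2 b1 + e2 * X2 b2 = 1 := by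
    have := hn02
    rw [ip_comm, ip_combo3 X2 X0 1 e1 e2 o b1 b2 hX0, hX2o] at this
    linarith
  obtain ⟨hl1, hu1⟩ := abs_le_one_of_sq_le_three (by rw [← hn2]; exact sq_le_ip_self X2 b1)
  obtain ⟨hl2, hu2⟩ := abs_le_one_of_sq_le_three (by rw [← hn2]; exact sq_le_ip_self X2 b2)
  have hcases : (X2 b1 = e1 ∧ X2 b2 = 0) ∨ (X2 b1 = 0 ∧ X2 b2 = e2) := by
    rcases he1 with rfl | rfl <;> rcases he2 with rfl | rfl <;> omega
  rcases hcases with ⟨hc1, hc2⟩ | ⟨hc1, hc2⟩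
  · exact lat_unique_aux l0 huniq hveq X0 X2 hX0' hX2' he1 he2 h12 hb1o hb2o hX0 hc1 hc2 hX2o hn2
  · exact lat_unique_aux l0 huniq hveq X0 X2 hX0' hX2' he2 he1 h12.symm hb2o hb1o
      (fun i => by rw [hX0 i]; ring) hc2 hc1 hX2o hn2

end Cfsg.Agent.H2.Dih
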