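import Mathlib
import Cfsg.Prelude.Def_Blocks
import Cfsg.Agent.H2.Dih.B1
import Cfsg.Agent.H2.Dih.C2

set_option autoImplicit false
set_option linter.style.haveILetI false
set_option linter.unusedSectionVars false
set_option linter.unusedVariables false

/-!
# Dihedral Sylow 2-subgroups: the matrix of multiplicities of the principal block
-/

namespace Cfsg.Agent.H2.Dih

open Cfsg Cfsg.Agent.Lib.helper3.Block Cfsg.Agent.Lib.helper3.Irr
open Cfsg.Agent.Lib.helper3.CharBasic Cfsg.Agent.H2.Hom2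
open scoped ComplexConjugate

universe u

namespace Setup

variable {G : Type u} [Group G] [Finite G] {M : Ideal AlgInt} {a : ℕ} (D : Setup G a)

/-- The homomorphism from the cyclic group onto the powers of `σ`. -/
noncomputable def spHom : CN (2 ^ a) →* G where
  toFun u := D.sp (Multiplicative.toAdd u)
  map_one' := D.sp_zero
  map_mul' x y := D.sp_add _ _

/-- The restrictions of the characters of the principal block to the powers of `σ`. -/
noncomputable def fres (M : Ideal AlgInt) : ↥(principalBlock M G) → CN (2 ^ a) → ℂ :=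
  fun i u => (i.1 : G → ℂ) (D.sp (Multiplicative.toAdd u))

theorem fres_apply (i : ↥(principalBlock M G)) (u : CN (2 ^ a)) :
    D.fres M i u = (i.1 : G → ℂ) (D.sp (Multiplicative.toAdd u)) := rfl

theorem fres_isCharacter (i : ↥(principalBlock M G)) : IsCharacter (CN (2 ^ a)) (D.fres M i) :=
  isCharacter_comp (isCharacter_of_isIrrCharacter i.1.2) D.spHom

theorem finsum_block [Fintype ↥(principalBlock M G)] (F : IrrCharacter G → ℂ) :
    ∑ᶠ ζ ∈ principalBlock M G, F ζ = ∑ i : ↥(principalBlock M G), F i.1 := by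
  rw [← finsum_set_coe_eq_finsum_mem, finsum_eq_sum_of_fintype]

theorem kerHyp2 (hM : IsPModular 2 M) [Fintype ↥(principalBlock M G)] :
    KerHyp2 (D.fres M) (ker2 (D.fres M) 1 1) := by
  intro u u'
  have hker : ker2 (D.fres M) u u' =
      ∑ᶠ ζ ∈ principalBlock M G, (ζ : G → ℂ) (D.sp (Multiplicative.toAdd u)) *
        conj ((ζ : G → ℂ) (D.sp (Multiplicative.toAdd u'))) := by
    rw [finsum_block]
    rfl
  by_cases h11 : u = 1 ∧ u' = 1
  · obtain ⟨rfl, rfl⟩ := h11
    rw [if_pos rfl, if_pos (inv_one).symm, if_pos ⟨rfl, rfl⟩]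
    ring
  · rw [if_neg h11, add_zero, hker, D.ker_sp hM _ _ (by
      intro h
      apply h11
      exact ⟨h.1, h.2⟩), card_cn]
    push_cast
    have e1 : (Multiplicative.toAdd u' = Multiplicative.toAdd u) ↔ u' = u := Iff.rfl
    have e2 : (Multiplicative.toAdd u' = -Multiplicative.toAdd u) ↔ u' = u⁻¹ := Iff.rfl
    by_cases h1 : u' = u
    · by_cases h2 : u' = u⁻¹
      · rw [if_pos (e1.mpr h1), if_pos (e2.mpr h2), if_pos h1, if_pos h2]
      · rw [if_pos (e1.mpr h1), if_neg (fun h => h2 (e2.mp h)), if_pos h1, if_neg h2]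
    · by_cases h2 : u' = u⁻¹
      · rw [if_neg (fun h => h1 (e1.mp h)), if_pos (e2.mpr h2), if_neg h1, if_pos h2]
      · rw [if_neg (fun h => h1 (e1.mp h)), if_neg (fun h => h2 (e2.mp h)), if_neg h1, if_neg h2]

variable {ζ : ℂ} (hζ : IsPrimitiveRoot ζ (2 ^ a)) [Fintype ↥(principalBlock M G)]

/-- The matrix of multiplicities. -/
noncomputable def Amat (M : Ideal AlgInt) [Fintype ↥(principalBlock M G)] (j : ZMod (2 ^ a))
    (i : ↥(principalBlock M G)) : ℤ :=
  mult hζ (fun i => D.fres_isCharacter (M := M) i) i j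

theorem Amat_spec (j : ZMod (2 ^ a)) (i : ↥(principalBlock M G)) :
    ((D.Amat hζ M j i : ℤ) : ℂ) = classInner (D.fres M i) (lam hζ j : CN (2 ^ a) → ℂ) :=
  coef_spec (fun i => D.fres_isCharacter (M := M) i) i _

/-- The Gram matrix of the columns of the matrix of multiplicities. -/
theorem gram_A (hM : IsPModular 2 M) [DecidableEq ↥(principalBlock M G)] :
    ∃ κ : ℤ, ∀ j j' : ZMod (2 ^ a), ip (D.Amat hζ M j) (D.Amat hζ M j') =
      (if j' = j then 1 else 0) + (if -j' = j then 1 else 0) + κ := by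
  have hker := D.kerHyp2 (M := M) hM
  have hg := fun j j' => gram_mult hζ (fun i => D.fres_isCharacter (M := M) i) hker j j'
  have h10 : (1 : ZMod (2 ^ a)) ≠ 0 := by
    intro h
    have h1 := D.sp_zero
    rw [← h, D.sp_one] at h1
    have h2 := D.hσo
    rw [h1, orderOf_one] at h2
    have := D.three_le
    omega
  refine ⟨ip (D.Amat hζ M 0) (D.Amat hζ M 1), fun j j' => ?_⟩
  have h01 := hg 0 1
  rw [if_neg h10, if_neg (fun h => h10 (neg_eq_zero.mp h))] at h01
  have hjj := hg j j'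
  have hκ : ((2 ^ a : ℕ) : ℂ)⁻¹ ^ 2 * (ker2 (D.fres M) 1 1 - 2 * ((2 ^ a : ℕ) : ℂ)) =
      ((ip (D.Amat hζ M 0) (D.Amat hζ M 1) : ℤ) : ℂ) := by
    rw [← sub_eq_zero]
    have : ((ip (D.Amat hζ M 0) (D.Amat hζ M 1) : ℤ) : ℂ) =
        ((∑ i, mult hζ (fun i => D.fres_isCharacter (M := M) i) i 0 *
          mult hζ (fun i => D.fres_isCharacter (M := M) i) i 1 : ℤ) : ℂ) := rfl
    rw [this, h01]
    push_cast
    ring
  rw [hκ] at hjj
  have : ((ip (D.Amat hζ M j) (D.Amat hζ M j') : ℤ) : ℂ) =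
      ((∑ i, mult hζ (fun i => D.fres_isCharacter (M := M) i) i j *
        mult hζ (fun i => D.fres_isCharacter (M := M) i) i j' : ℤ) : ℂ) := rfl
  rw [← this] at hjj
  exact_mod_cast hjj

/-- The row of the principal character. -/
theorem Amat_one (o : ↥(principalBlock M G)) (ho : (o.1 : G → ℂ) = fun _ => 1)
    (j : ZMod (2 ^ a)) : D.Amat hζ M j o = if j = 0 then 1 else 0 := by
  have h1 : D.fres M o = (lam hζ 0 : CN (2 ^ a) → ℂ) := by
    rw [lam_zero]
    funext u
    rw [fres_apply, ho]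
  have h2 := D.Amat_spec hζ (M := M) j o
  rw [h1, classInner_irr] at h2
  have h3 : (if lam hζ 0 = lam hζ j then (1 : ℤ) else 0) = if j = 0 then 1 else 0 := by
    by_cases hj : j = 0
    · rw [if_pos hj, if_pos (by rw [hj])]
    · rw [if_neg hj, if_neg (fun h => hj (lam_injective hζ h).symm)]
  rw [h3] at h2
  exact_mod_cast h2

/-- The weighted column sums do not depend on the column. -/
theorem weighted_A (hM : IsPModular 2 M) (ρ : G) (hρ : Odd (orderOf ρ)) (j j' : ZMod (2 ^ a)) :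
    ∑ i : ↥(principalBlock M G), (i.1 : G → ℂ) ρ * ((D.Amat hζ M j i : ℤ) : ℂ) =
      ∑ i : ↥(principalBlock M G), (i.1 : G → ℂ) ρ * ((D.Amat hζ M j' i : ℤ) : ℂ) := by
  have hg : ∀ u : CN (2 ^ a), u ≠ 1 →
      ∑ i : ↥(principalBlock M G), (i.1 : G → ℂ) ρ * conj (D.fres M i u) = 0 := by
    intro u hu
    have h := ker_odd_even hM ρ (D.sp (Multiplicative.toAdd u)) hρ
      (D.two_dvd_orderOf_sp (fun h => hu h))
    rw [finsum_block] at h
    exact h
  have h1 := weighted_mult hζ (fun i => D.fres_isCharacter (M := M) i)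
    (fun i => (i.1 : G → ℂ) ρ) hg j
  have h2 := weighted_mult hζ (fun i => D.fres_isCharacter (M := M) i)
    (fun i => (i.1 : G → ℂ) ρ) hg j'
  exact h1.trans h2.symm

/-- The values on the powers of `σ` in terms of the multiplicities. -/
theorem value_A (b : ↥(principalBlock M G)) (l : ZMod (2 ^ a)) :
    (b.1 : G → ℂ) (D.sp l) = ∑ j : ZMod (2 ^ a), ((D.Amat hζ M j b : ℤ) : ℂ) * zp hζ (j * l) :=
  apply_eq_sum_mult hζ (fun i => D.fres_isCharacter (M := M) i) b (Multiplicative.ofAdd l)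

end Setup

end Cfsg.Agent.H2.Dih
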