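import Mathlib
import Cfsg.Prelude.Def_Blocks
import Cfsg.Agent.H2.Dih.M1
import Cfsg.Agent.H2.Dih.L3
import Cfsg.Agent.H2.Dih.L4

set_option autoImplicit false
set_option linter.style.haveILetI false
set_option linter.unusedSectionVars false
set_option linter.unusedVariables false
set_option maxHeartbeats 800000

/-!
# Dihedral Sylow 2-subgroups: the lattice hypotheses for the matrix of multiplicities
-/

namespace Cfsg.Agent.H2.Dih

open Cfsg Cfsg.Agent.Lib.helper3.Block Cfsg.Agent.Lib.helper3.Irr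
open Cfsg.Agent.Lib.helper3.CharBasic Cfsg.Agent.H2.Hom2
open scoped ComplexConjugate

universe u

/-- The generic indices. -/
abbrev Gen (a : ℕ) : Type := {j : ZMod (2 ^ a) // j ≠ 0 ∧ j ≠ Setup.hh a}

/-- The relation on the generic indices. -/
def genRel (a : ℕ) (l m : Gen a) : Prop := l.1 = m.1 ∨ l.1 = -m.1

instance (a : ℕ) : DecidableRel (genRel a) := fun l m =>
  inferInstanceAs (Decidable (l.1 = m.1 ∨ l.1 = -m.1))

theorem cast_ne_cast {N : ℕ} [NeZero N] {k k' : ℕ} (hk : k < N) (hk' : k' < N) (hne : k ≠ k') :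
    (k : ZMod N) ≠ (k' : ZMod N) := by
  intro h
  apply hne
  have := congrArg ZMod.val h
  rwa [ZMod.val_natCast_of_lt hk, ZMod.val_natCast_of_lt hk'] at this

theorem cast_ne_neg_cast {N : ℕ} [NeZero N] {k k' : ℕ} (h0 : 0 < k + k') (hlt : k + k' < N) :
    (k : ZMod N) ≠ -(k' : ZMod N) := by
  intro h
  have h1 : ((k + k' : ℕ) : ZMod N) = 0 := by
    push_cast
    rw [h]
    ring
  rw [ZMod.natCast_eq_zero_iff] at h1
  exact absurd (Nat.le_of_dvd h0 h1) (by omega)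

theorem cast_ne_zero {N : ℕ} [NeZero N] {k : ℕ} (h0 : 0 < k) (hlt : k < N) :
    (k : ZMod N) ≠ 0 := by
  intro h1
  rw [ZMod.natCast_eq_zero_iff] at h1
  exact absurd (Nat.le_of_dvd h0 h1) (by omega)

namespace Setup

variable {G : Type u} [Group G] [Finite G] {M : Ideal AlgInt} {a : ℕ} (D : Setup G a)

include D in
theorem gen_ne_neg (l : Gen a) : l.1 ≠ -l.1 := by
  intro h
  have h2 : 2 * l.1 = 0 := by
    rw [two_mul]
    nth_rewrite 1 [h]
    exact neg_add_cancel _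
  exact l.2.2 (D.eq_hh_of_two_mul h2 l.2.1)

include D in
theorem genRel_ite (l m : Gen a) :
    ((if m.1 = l.1 then 1 else 0 : ℤ) + if -m.1 = l.1 then 1 else 0) =
      if genRel a l m then 1 else 0 := by
  by_cases h1 : m.1 = l.1
  · have h2 : ¬ (-m.1 = l.1) := by
      intro h
      apply D.gen_ne_neg m
      rw [h, h1]
    rw [if_pos h1, if_neg h2, if_pos (show genRel a l m from Or.inl h1.symm)]
    rfl
  · by_cases h2 : -m.1 = l.1
    · rw [if_neg h1, if_pos h2, if_pos (show genRel a l m from Or.inr h2.symm)]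
      rfl
    · rw [if_neg h1, if_neg h2, if_neg]
      · rfl
      · rintro (h | h)
        · exact h1 h.symm
        · exact h2 h.symm

variable {ζ : ℂ} (hζ : IsPrimitiveRoot ζ (2 ^ a)) [Fintype ↥(principalBlock M G)]
  [DecidableEq ↥(principalBlock M G)]

/-- The lattice hypotheses hold for the matrix of multiplicities. -/
theorem latHyp (hM : IsPModular 2 M) (o : ↥(principalBlock M G))
    (ho : (o.1 : G → ℂ) = fun _ => 1) (d : ↥(principalBlock M G) → ℤ)
    (hd : ∀ i : ↥(principalBlock M G), (i.1 : G → ℂ) 1 = ((d i : ℤ) : ℂ)) (hdpos : ∀ i, 0 < d i) :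
    ∃ κ : ℤ, LatHyp (genRel a) (fun l : Gen a => D.Amat hζ M l.1) (D.Amat hζ M 0)
      (D.Amat hζ M (hh a)) κ o d := by
  obtain ⟨κ, hκ⟩ := D.gram_A hζ (M := M) hM
  have hdeg : ∀ j j' : ZMod (2 ^ a), ip d (D.Amat hζ M j) = ip d (D.Amat hζ M j') := by
    intro j j'
    have h := D.weighted_A hζ (M := M) hM 1 (by rw [orderOf_one]; exact odd_one) j j'
    have e : ∀ j : ZMod (2 ^ a), ∑ i : ↥(principalBlock M G), (i.1 : G → ℂ) 1 *
        ((D.Amat hζ M j i : ℤ) : ℂ) = ((ip d (D.Amat hζ M j) : ℤ) : ℂ) := by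
      intro j
      unfold ip
      push_cast
      apply Finset.sum_congr rfl
      intro i _
      rw [hd i]
    rw [e j, e j'] at h
    exact_mod_cast h
  have hh0 : hh a ≠ 0 := D.hh_ne_zero
  refine ⟨κ, ⟨?_, fun l => Or.inl rfl, ?_, ?_, ?_, ?_, ?_, ?_, ?_, ?_, ?_, hdpos, ?_, ?_, ?_⟩⟩
  · intro l m
    rw [hκ, ← D.genRel_ite l m]
    ring
  · rintro l m (h | h)
    · exact Or.inl h.symm
    · right
      rw [h, neg_neg]
  · intro l
    rw [hκ, if_neg l.2.1, if_neg (fun h => l.2.1 (neg_eq_zero.mp h))]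
    ring
  · intro l
    rw [hκ, if_neg l.2.2, if_neg (fun h => l.2.2 (by rw [← neg_neg l.1, h, D.neg_hh]))]
    ring
  · rw [hκ, if_pos rfl, if_pos neg_zero]
    ring
  · rw [hκ, if_pos rfl, if_pos D.neg_hh]
    ring
  · rw [hκ, if_neg hh0, if_neg (fun h => hh0 (neg_eq_zero.mp h))]
    ring
  · intro l
    rw [D.Amat_one hζ o ho, if_neg l.2.1]
  · rw [D.Amat_one hζ o ho, if_pos rfl]
  · rw [D.Amat_one hζ o ho, if_neg hh0]
  · have h1 : (1 : ℂ) = ((d o : ℤ) : ℂ) := by rw [← hd o, ho]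
    exact_mod_cast h1.symm
  · intro l
    exact hdeg _ _
  · exact hdeg _ _

theorem genRel_of_two : ∀ l m : Gen 2, genRel 2 l m := by
  have h : ∀ j k : ZMod (2 ^ 2), j ≠ 0 → j ≠ Setup.hh 2 → k ≠ 0 → k ≠ Setup.hh 2 →
      j = k ∨ j = -k := by decide
  intro l m
  exact h l.1 m.1 l.2.1 l.2.2 m.2.1 m.2.2

theorem exists_three (ha : 3 ≤ a) : ∃ l1 l2 l3 : Gen a,
    ¬ genRel a l1 l2 ∧ ¬ genRel a l1 l3 ∧ ¬ genRel a l2 l3 := by
  have h8 : 8 ≤ 2 ^ a := by
    have : 2 ^ 3 ≤ 2 ^ a := Nat.pow_le_pow_right (by norm_num) ha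
    omega
  have hh4 : 4 ≤ 2 ^ (a - 1) := by
    have : 2 ^ 2 ≤ 2 ^ (a - 1) := Nat.pow_le_pow_right (by norm_num) (by omega)
    omega
  have hhlt : 2 ^ (a - 1) < 2 ^ a := Nat.pow_lt_pow_right (by norm_num) (by omega)
  have c1 : ((1 : ℕ) : ZMod (2 ^ a)) = 1 := Nat.cast_one
  have c2 : ((2 : ℕ) : ZMod (2 ^ a)) = 2 := Nat.cast_ofNat
  have c3 : ((3 : ℕ) : ZMod (2 ^ a)) = 3 := Nat.cast_ofNat
  have g1 : (1 : ZMod (2 ^ a)) ≠ 0 ∧ (1 : ZMod (2 ^ a)) ≠ hh a := by
    rw [← c1]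
    exact ⟨cast_ne_zero (by norm_num) (by omega), cast_ne_cast (by omega) hhlt (by omega)⟩
  have g2 : (2 : ZMod (2 ^ a)) ≠ 0 ∧ (2 : ZMod (2 ^ a)) ≠ hh a := by
    rw [← c2]
    exact ⟨cast_ne_zero (by norm_num) (by omega), cast_ne_cast (by omega) hhlt (by omega)⟩
  have g3 : (3 : ZMod (2 ^ a)) ≠ 0 ∧ (3 : ZMod (2 ^ a)) ≠ hh a := by
    rw [← c3]
    exact ⟨cast_ne_zero (by norm_num) (by omega), cast_ne_cast (by omega) hhlt (by omega)⟩
  refine ⟨⟨1, g1⟩, ⟨2, g2⟩, ⟨3, g3⟩, ?_, ?_, ?_⟩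
  · rintro (h | h)
    · exact cast_ne_cast (N := 2 ^ a) (k := 1) (k' := 2) (by omega) (by omega) (by omega)
        (by rw [c1, c2]; exact h)
    · exact cast_ne_neg_cast (N := 2 ^ a) (k := 1) (k' := 2) (by omega) (by omega)
        (by rw [c1, c2]; exact h)
  · rintro (h | h)
    · exact cast_ne_cast (N := 2 ^ a) (k := 1) (k' := 3) (by omega) (by omega) (by omega)
        (by rw [c1, c3]; exact h)
    · exact cast_ne_neg_cast (N := 2 ^ a) (k := 1) (k' := 3) (by omega) (by omega)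
        (by rw [c1, c3]; exact h)
  · rintro (h | h)
    · exact cast_ne_cast (N := 2 ^ a) (k := 2) (k' := 3) (by omega) (by omega) (by omega)
        (by rw [c2, c3]; exact h)
    · exact cast_ne_neg_cast (N := 2 ^ a) (k := 2) (k' := 3) (by omega) (by omega)
        (by rw [c2, c3]; exact h)

/-- The conclusion of the lattice argument for the matrix of multiplicities. -/
theorem latConcl (hM : IsPModular 2 M) (o : ↥(principalBlock M G))
    (ho : (o.1 : G → ℂ) = fun _ => 1) (d : ↥(principalBlock M G) → ℤ)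
    (hd : ∀ i : ↥(principalBlock M G), (i.1 : G → ℂ) 1 = ((d i : ℤ) : ℂ)) (hdpos : ∀ i, 0 < d i) :
    LatConcl (genRel a) (fun l : Gen a => D.Amat hζ M l.1) (D.Amat hζ M 0)
      (D.Amat hζ M (hh a)) o := by
  obtain ⟨κ, H⟩ := D.latHyp hζ hM o ho d hd hdpos
  by_cases ha : 3 ≤ a
  · obtain ⟨l1, l2, l3, h12, h13, h23⟩ := exists_three ha
    exact lat_of_three H h12 h13 h23
  · have ha2 : a = 2 := by have := D.ha; omega
    subst ha2
    have h1 : (1 : ZMod (2 ^ 2)) ≠ 0 ∧ (1 : ZMod (2 ^ 2)) ≠ hh 2 := by decide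
    exact lat_of_unique H ⟨1, h1⟩ genRel_of_two

end Setup

end Cfsg.Agent.H2.Dih
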