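import Mathlib
import Cfsg.Prelude.Def_Blocks
import Cfsg.Agent.H2.Dih.M2

set_option autoImplicit false
set_option linter.style.haveILetI false
set_option linter.unusedSectionVars false
set_option linter.unusedVariables false
set_option maxHeartbeats 800000

/-!
# Dihedral Sylow 2-subgroups: consequences of the lattice argument
-/

namespace Cfsg.Agent.H2.Dih

open Cfsg Cfsg.Agent.Lib.helper3.Block Cfsg.Agent.Lib.helper3.Irr
open Cfsg.Agent.Lib.helper3.CharBasic Cfsg.Agent.H2.Hom2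
open scoped ComplexConjugate

universe u

theorem sum_ind_mul_cx {ι : Type*} [Fintype ι] [DecidableEq ι] (A : ι) (g : ι → ℂ) :
    ∑ i, ((ind A i : ℤ) : ℂ) * g i = g A := by
  unfold ind
  have : ∀ i, (((if i = A then 1 else 0 : ℤ)) : ℂ) * g i = if i = A then g i else 0 := by
    intro i
    split_ifs <;> simp
  rw [Finset.sum_congr rfl (fun i _ => this i), Finset.sum_ite_eq' Finset.univ A]
  simp

theorem sum_mul_combo3 {B : Type*} [Fintype B] [DecidableEq B] (g : B → ℂ) (c1 c2 c3 : ℤ)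
    (A1 A2 A3 : B) :
    ∑ i, g i * ((c1 * ind A1 i + c2 * ind A2 i + c3 * ind A3 i : ℤ) : ℂ) =
      (c1 : ℂ) * g A1 + (c2 : ℂ) * g A2 + (c3 : ℂ) * g A3 := by
  have : ∀ i, g i * ((c1 * ind A1 i + c2 * ind A2 i + c3 * ind A3 i : ℤ) : ℂ) =
      (c1 : ℂ) * (((ind A1 i : ℤ) : ℂ) * g i) + (c2 : ℂ) * (((ind A2 i : ℤ) : ℂ) * g i) +
      (c3 : ℂ) * (((ind A3 i : ℤ) : ℂ) * g i) := by
    intro i
    push_cast
    ring
  rw [Finset.sum_congr rfl (fun i _ => this i), Finset.sum_add_distrib, Finset.sum_add_distrib,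
    ← Finset.mul_sum, ← Finset.mul_sum, ← Finset.mul_sum, sum_ind_mul_cx,
    sum_ind_mul_cx, sum_ind_mul_cx]

namespace Setup

variable {G : Type u} [Group G] [Finite G] {M : Ideal AlgInt} {a : ℕ} (D : Setup G a)
  {ζ : ℂ} (hζ : IsPrimitiveRoot ζ (2 ^ a)) [Fintype ↥(principalBlock M G)]
  [DecidableEq ↥(principalBlock M G)]

/-- The values on the nonidentity powers of `σ` in terms of the deviations. -/
theorem value_dev (b : ↥(principalBlock M G)) (δb : ℤ) (E : ZMod (2 ^ a) → ℤ)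
    (hE : ∀ j, D.Amat hζ M j b = δb + E j) {l : ZMod (2 ^ a)} (hl : l ≠ 0) :
    (b.1 : G → ℂ) (D.sp l) = ∑ j : ZMod (2 ^ a), ((E j : ℤ) : ℂ) * zp hζ (j * l) := by
  rw [D.value_A hζ b l]
  have h1 : ∀ j : ZMod (2 ^ a), ((D.Amat hζ M j b : ℤ) : ℂ) * zp hζ (j * l) =
      (δb : ℂ) * zp hζ (j * l) + ((E j : ℤ) : ℂ) * zp hζ (j * l) := by
    intro j
    rw [hE j]
    push_cast
    ring
  rw [Finset.sum_congr rfl (fun j _ => h1 j), Finset.sum_add_distrib, ← Finset.mul_sum,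
    sum_zp_mul hζ hl, mul_zero, zero_add]

theorem value_one_term (b : ↥(principalBlock M G)) (δb c : ℤ) (j₁ : ZMod (2 ^ a))
    (hE : ∀ j, D.Amat hζ M j b = δb + if j = j₁ then c else 0) {l : ZMod (2 ^ a)} (hl : l ≠ 0) :
    (b.1 : G → ℂ) (D.sp l) = (c : ℂ) * zp hζ (j₁ * l) := by
  rw [D.value_dev hζ b δb _ hE hl]
  have h1 : ∀ j : ZMod (2 ^ a), (((if j = j₁ then c else 0 : ℤ)) : ℂ) * zp hζ (j * l) =
      if j = j₁ then (c : ℂ) * zp hζ (j * l) else 0 := by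
    intro j
    split_ifs <;> simp
  rw [Finset.sum_congr rfl (fun j _ => h1 j), Finset.sum_ite_eq' Finset.univ j₁]
  simp

theorem value_two_terms (b : ↥(principalBlock M G)) (δb c : ℤ) (j₁ j₂ : ZMod (2 ^ a))
    (hE : ∀ j, D.Amat hζ M j b = δb + ((if j = j₁ then c else 0) + if j = j₂ then c else 0))
    {l : ZMod (2 ^ a)} (hl : l ≠ 0) :
    (b.1 : G → ℂ) (D.sp l) = (c : ℂ) * (zp hζ (j₁ * l) + zp hζ (j₂ * l)) := by
  rw [D.value_dev hζ b δb _ hE hl]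
  have h1 : ∀ j : ZMod (2 ^ a),
      (((if j = j₁ then c else 0) + (if j = j₂ then c else 0) : ℤ) : ℂ) * zp hζ (j * l) =
      (if j = j₁ then (c : ℂ) * zp hζ (j * l) else 0) +
        (if j = j₂ then (c : ℂ) * zp hζ (j * l) else 0) := by
    intro j
    split_ifs <;> push_cast <;> ring
  rw [Finset.sum_congr rfl (fun j _ => h1 j), Finset.sum_add_distrib,
    Finset.sum_ite_eq' Finset.univ j₁, Finset.sum_ite_eq' Finset.univ j₂]
  simp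
  ring

/-- The result of the lattice argument, as data. -/
structure Res (M : Ideal AlgInt) [Fintype ↥(principalBlock M G)]
    [DecidableEq ↥(principalBlock M G)] (o : ↥(principalBlock M G)) where
  δ : ↥(principalBlock M G) → ℤ
  ε : ℤ
  ε₁ : ℤ
  ε₂ : ℤ
  ε₃ : ℤ
  X : Gen a → ↥(principalBlock M G)
  χ₁ : ↥(principalBlock M G)
  χ₂ : ↥(principalBlock M G)
  χ₃ : ↥(principalBlock M G)
  hε : ε = 1 ∨ ε = -1
  hε₁ : ε₁ = 1 ∨ ε₁ = -1
  hε₂ : ε₂ = 1 ∨ ε₂ = -1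
  hε₃ : ε₃ = 1 ∨ ε₃ = -1
  hv : ∀ (l : Gen a) b, D.Amat hζ M l.1 b = δ b + ε * ind (X l) b
  hX : ∀ m n, X m = X n ↔ genRel a m n
  h0 : ∀ b, D.Amat hζ M 0 b = δ b + ind o b + ε₁ * ind χ₁ b
  hhh : ∀ b, D.Amat hζ M (hh a) b = δ b + ε₂ * ind χ₂ b + ε₃ * ind χ₃ b
  h1o : χ₁ ≠ o
  h2o : χ₂ ≠ o
  h3o : χ₃ ≠ o
  h12 : χ₁ ≠ χ₂
  h13 : χ₁ ≠ χ₃
  h23 : χ₂ ≠ χ₃
  hXne : ∀ l, X l ≠ o ∧ X l ≠ χ₁ ∧ X l ≠ χ₂ ∧ X l ≠ χ₃

theorem exists_res (hM : IsPModular 2 M) (o : ↥(principalBlock M G))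
    (ho : (o.1 : G → ℂ) = fun _ => 1) (d : ↥(principalBlock M G) → ℤ)
    (hd : ∀ i : ↥(principalBlock M G), (i.1 : G → ℂ) 1 = ((d i : ℤ) : ℂ)) (hdpos : ∀ i, 0 < d i) :
    Nonempty (D.Res hζ M o) := by
  obtain ⟨δ, ε, ε₁, ε₂, ε₃, X, χ₁, χ₂, χ₃, hε, hε₁, hε₂, hε₃, hv, hX, h0, hhh, h1o, h2o, h3o,
    h12, h13, h23, hXne⟩ := D.latConcl hζ hM o ho d hd hdpos
  exact ⟨⟨δ, ε, ε₁, ε₂, ε₃, X, χ₁, χ₂, χ₃, hε, hε₁, hε₂, hε₃, hv, hX, h0, hhh, h1o, h2o, h3o,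
    h12, h13, h23, hXne⟩⟩

end Setup

end Cfsg.Agent.H2.Dih
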