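import Mathlib
import Cfsg.Prelude.Def_Blocks
import Cfsg.Agent.H2.Dih.M3

set_option autoImplicit false
set_option linter.style.haveILetI false
set_option linter.unusedSectionVars false
set_option linter.unusedVariables false
set_option maxHeartbeats 800000

/-!
# Dihedral Sylow 2-subgroups: the rows of the matrix of multiplicities
-/

namespace Cfsg.Agent.H2.Dih

open Cfsg Cfsg.Agent.Lib.helper3.Block Cfsg.Agent.Lib.helper3.Irr
open Cfsg.Agent.Lib.helper3.CharBasic Cfsg.Agent.H2.Hom2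
open scoped ComplexConjugate

universe u

namespace Setup

variable {G : Type u} [Group G] [Finite G] {M : Ideal AlgInt} {a : ℕ} {D : Setup G a}
  {ζ : ℂ} {hζ : IsPrimitiveRoot ζ (2 ^ a)} [Fintype ↥(principalBlock M G)]
  [DecidableEq ↥(principalBlock M G)] {o : ↥(principalBlock M G)}

theorem index_cases (j : ZMod (2 ^ a)) : j = 0 ∨ j = hh a ∨ ∃ l : Gen a, l.1 = j := by
  by_cases h0 : j = 0
  · exact Or.inl h0
  · by_cases hh' : j = hh a
    · exact Or.inr (Or.inl hh')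
    · exact Or.inr (Or.inr ⟨⟨j, h0, hh'⟩, rfl⟩)

namespace Res

variable (R : D.Res hζ M o)

include R in
theorem hh_ne_zero' : hh a ≠ 0 := D.hh_ne_zero

theorem dev_chi1 (j : ZMod (2 ^ a)) :
    D.Amat hζ M j R.χ₁ = R.δ R.χ₁ + if j = 0 then R.ε₁ else 0 := by
  rcases index_cases j with rfl | rfl | ⟨l, rfl⟩
  · rw [R.h0, if_pos rfl, ind_ne R.h1o, ind_self]; ring
  · rw [R.hhh, if_neg D.hh_ne_zero, ind_ne R.h12, ind_ne R.h13]; ring
  · rw [R.hv, if_neg l.2.1, ind_ne (R.hXne l).2.1.symm]; ring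

theorem dev_chi2 (j : ZMod (2 ^ a)) :
    D.Amat hζ M j R.χ₂ = R.δ R.χ₂ + if j = hh a then R.ε₂ else 0 := by
  rcases index_cases j with rfl | rfl | ⟨l, rfl⟩
  · rw [R.h0, if_neg D.hh_ne_zero.symm, ind_ne R.h2o, ind_ne R.h12.symm]; ring
  · rw [R.hhh, if_pos rfl, ind_self, ind_ne R.h23]; ring
  · rw [R.hv, if_neg l.2.2, ind_ne (R.hXne l).2.2.1.symm]; ring

theorem dev_chi3 (j : ZMod (2 ^ a)) :
    D.Amat hζ M j R.χ₃ = R.δ R.χ₃ + if j = hh a then R.ε₃ else 0 := by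
  rcases index_cases j with rfl | rfl | ⟨l, rfl⟩
  · rw [R.h0, if_neg D.hh_ne_zero.symm, ind_ne R.h3o, ind_ne R.h13.symm]; ring
  · rw [R.hhh, if_pos rfl, ind_self, ind_ne R.h23.symm]; ring
  · rw [R.hv, if_neg l.2.2, ind_ne (R.hXne l).2.2.2.symm]; ring

theorem dev_X (l₀ : Gen a) (j : ZMod (2 ^ a)) :
    D.Amat hζ M j (R.X l₀) = R.δ (R.X l₀) +
      ((if j = l₀.1 then R.ε else 0) + if j = -l₀.1 then R.ε else 0) := by
  rcases index_cases j with rfl | rfl | ⟨l, rfl⟩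
  · rw [R.h0, if_neg l₀.2.1.symm, if_neg (fun h => l₀.2.1 (neg_eq_zero.mp h.symm)),
      ind_ne (R.hXne l₀).1, ind_ne (R.hXne l₀).2.1]
    ring
  · rw [R.hhh, if_neg l₀.2.2.symm, if_neg (fun h => l₀.2.2 (by
      rw [← neg_neg l₀.1, ← h, D.neg_hh])),
      ind_ne (R.hXne l₀).2.2.1, ind_ne (R.hXne l₀).2.2.2]
    ring
  · rw [R.hv]
    by_cases h1 : l.1 = l₀.1
    · have h2 : ¬ (l.1 = -l₀.1) := by
        intro h
        apply D.gen_ne_neg l₀
        rw [← h, h1]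
      have h3 : R.X l₀ = R.X l := (R.hX _ _).mpr (Or.inl h1.symm)
      rw [if_pos h1, if_neg h2, h3, ind_self]
      ring
    · by_cases h2 : l.1 = -l₀.1
      · have h3 : R.X l₀ = R.X l := (R.hX _ _).mpr (Or.inr (by rw [h2, neg_neg]))
        rw [if_neg h1, if_pos h2, h3, ind_self]
        ring
      · have h3 : R.X l₀ ≠ R.X l := by
          intro h
          rcases (R.hX _ _).mp h with h' | h'
          · exact h1 h'.symm
          · apply h2
            rw [h', neg_neg]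
        rw [if_neg h1, if_neg h2, ind_ne h3]
        ring

/-- Every character of the principal block appears. -/
theorem complete (hM : IsPModular 2 M) (b : ↥(principalBlock M G)) :
    b = o ∨ b = R.χ₁ ∨ b = R.χ₂ ∨ b = R.χ₃ ∨ ∃ l, b = R.X l := by
  by_contra hne
  push Not at hne
  obtain ⟨hbo, hb1, hb2, hb3, hbX⟩ := hne
  have hE : ∀ j, D.Amat hζ M j b = R.δ b + if j = 0 then 0 else 0 := by
    intro j
    rw [ite_self, add_zero]
    rcases index_cases j with rfl | rfl | ⟨l, rfl⟩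
    · rw [R.h0, ind_ne hbo, ind_ne hb1]; ring
    · rw [R.hhh, ind_ne hb2, ind_ne hb3]; ring
    · rw [R.hv, ind_ne (hbX l)]; ring
  have h := D.value_one_term hζ b (R.δ b) 0 0 hE D.hh_ne_zero
  rw [Int.cast_zero, zero_mul] at h
  exact D.apply_J_ne_zero hM b.1 b.2 h

/-- The relations on the elements of odd order. -/
theorem rel_odd (hM : IsPModular 2 M) (ρ : G) (hρ : Odd (orderOf ρ)) (l : Gen a) :
    (o.1 : G → ℂ) ρ + (R.ε₁ : ℂ) * (R.χ₁.1 : G → ℂ) ρ = (R.ε : ℂ) * ((R.X l).1 : G → ℂ) ρ ∧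
    (R.ε₂ : ℂ) * (R.χ₂.1 : G → ℂ) ρ + (R.ε₃ : ℂ) * (R.χ₃.1 : G → ℂ) ρ =
      (R.ε : ℂ) * ((R.X l).1 : G → ℂ) ρ := by
  constructor
  · have h := D.weighted_A hζ (M := M) hM ρ hρ 0 l.1
    rw [← sub_eq_zero, ← Finset.sum_sub_distrib] at h
    have h1 : ∀ i : ↥(principalBlock M G), (i.1 : G → ℂ) ρ * ((D.Amat hζ M 0 i : ℤ) : ℂ) -
        (i.1 : G → ℂ) ρ * ((D.Amat hζ M l.1 i : ℤ) : ℂ) =
        (i.1 : G → ℂ) ρ * ((1 * ind o i + R.ε₁ * ind R.χ₁ i + (-R.ε) * ind (R.X l) i : ℤ) : ℂ) := by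
      intro i
      rw [R.h0, R.hv]
      push_cast
      ring
    rw [Finset.sum_congr rfl (fun i _ => h1 i),
      sum_mul_combo3 (fun i : ↥(principalBlock M G) => (i.1 : G → ℂ) ρ)] at h
    push_cast at h
    linear_combination h
  · have h := D.weighted_A hζ (M := M) hM ρ hρ (hh a) l.1
    rw [← sub_eq_zero, ← Finset.sum_sub_distrib] at h
    have h1 : ∀ i : ↥(principalBlock M G), (i.1 : G → ℂ) ρ * ((D.Amat hζ M (hh a) i : ℤ) : ℂ) -
        (i.1 : G → ℂ) ρ * ((D.Amat hζ M l.1 i : ℤ) : ℂ) =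
        (i.1 : G → ℂ) ρ * ((R.ε₂ * ind R.χ₂ i + R.ε₃ * ind R.χ₃ i + (-R.ε) * ind (R.X l) i : ℤ) :
          ℂ) := by
      intro i
      rw [R.hhh, R.hv]
      push_cast
      ring
    rw [Finset.sum_congr rfl (fun i _ => h1 i),
      sum_mul_combo3 (fun i : ↥(principalBlock M G) => (i.1 : G → ℂ) ρ)] at h
    push_cast at h
    linear_combination h

/-- The sign of the generic characters is the sign of `χ₁`. -/
theorem sign_eq (hM : IsPModular 2 M) (ho : (o.1 : G → ℂ) = fun _ => 1) (l : Gen a) :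
    R.ε = R.ε₁ := by
  have h := (R.rel_odd hM 1 (by rw [orderOf_one]; exact odd_one) l).1
  obtain ⟨k1, hk1, e1⟩ := exists_pos_nat_apply_one R.χ₁.1.2
  obtain ⟨kl, hkl, el⟩ := exists_pos_nat_apply_one (R.X l).1.2
  rw [ho, e1, el] at h
  have h0 : (1 : ℂ) + (R.ε₁ : ℂ) * (k1 : ℂ) = (R.ε : ℂ) * (kl : ℂ) := h
  have h' : (1 : ℤ) + R.ε₁ * (k1 : ℤ) = R.ε * (kl : ℤ) := by exact_mod_cast h0
  have hk1' : (0 : ℤ) < k1 := by exact_mod_cast hk1
  have hkl' : (0 : ℤ) < kl := by exact_mod_cast hkl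
  rcases R.hε with h1 | h1 <;> rcases R.hε₁ with h2 | h2 <;> rw [h1, h2] at h' ⊢ <;> omega

end Res

end Setup

end Cfsg.Agent.H2.Dih
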