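import Mathlib
import Cfsg.Prelude.Def_Blocks
import Cfsg.Agent.H2.Dih.M4

set_option autoImplicit false
set_option linter.style.haveILetI false
set_option linter.unusedSectionVars false
set_option linter.unusedVariables false
set_option maxHeartbeats 1600000

/-!
# Dihedral Sylow 2-subgroups: the generic indices, and the powers of the root of unity
-/

namespace Cfsg.Agent.H2.Dih

open Cfsg Cfsg.Agent.Lib.helper3.Block Cfsg.Agent.Lib.helper3.Irr
open Cfsg.Agent.Lib.helper3.CharBasic Cfsg.Agent.H2.Hom2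
open scoped ComplexConjugate

universe u

namespace Setup

variable {G : Type u} [Group G] {a : ℕ} (D : Setup G a)

include D in
theorem half_lt : 2 ^ (a - 1) < 2 ^ a :=
  Nat.pow_lt_pow_right (by norm_num) (by have := D.ha; omega)

include D in
theorem two_mul_half : 2 * 2 ^ (a - 1) = 2 ^ a := by
  rw [← pow_succ']
  congr 1
  have := D.ha
  omega

include D in
theorem gen_mem {k : ℕ} (h0 : 0 < k) (hk : k < 2 ^ (a - 1)) :
    ((k : ℕ) : ZMod (2 ^ a)) ≠ 0 ∧ ((k : ℕ) : ZMod (2 ^ a)) ≠ hh a := by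
  have h1 := D.half_lt
  exact ⟨cast_ne_zero h0 (by omega), cast_ne_cast (by omega) h1 (by omega)⟩

/-- The generic index attached to a natural number. -/
def genNat {k : ℕ} (h0 : 0 < k) (hk : k < 2 ^ (a - 1)) : Gen a := ⟨(k : ZMod (2 ^ a)), D.gen_mem h0 hk⟩

/-- The generic index attached to `j : Fin (2 ^ (a - 1) - 1)`. -/
def genFin (j : Fin (2 ^ (a - 1) - 1)) : Gen a :=
  D.genNat (k := (j : ℕ) + 1) (by omega) (by have := j.2; omega)

theorem genFin_val (j : Fin (2 ^ (a - 1) - 1)) :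
    (D.genFin j).1 = (((j : ℕ) + 1 : ℕ) : ZMod (2 ^ a)) := rfl

theorem genRel_genFin {j j' : Fin (2 ^ (a - 1) - 1)} (h : genRel a (D.genFin j) (D.genFin j')) :
    j = j' := by
  have h1 := D.half_lt
  have h2 := D.two_mul_half
  have hj := j.2
  have hj' := j'.2
  rcases h with h | h
  · rw [genFin_val, genFin_val] at h
    by_contra hne
    apply cast_ne_cast (N := 2 ^ a) (k := (j : ℕ) + 1) (k' := (j' : ℕ) + 1) (by omega) (by omega)
      (fun h' => hne (Fin.ext (by omega))) h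
  · rw [genFin_val, genFin_val] at h
    exact absurd h (cast_ne_neg_cast (by omega) (by omega))

/-- Every generic index is related to one coming from `Fin (2 ^ (a - 1) - 1)`. -/
theorem exists_genFin (l : Gen a) : ∃ j : Fin (2 ^ (a - 1) - 1), genRel a l (D.genFin j) := by
  have h1 := D.half_lt
  have h2 := D.two_mul_half
  have hv : (l.1.val : ZMod (2 ^ a)) = l.1 := ZMod.natCast_zmod_val l.1
  have hlt : l.1.val < 2 ^ a := ZMod.val_lt l.1
  have h0 : l.1.val ≠ 0 := by
    intro h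
    apply l.2.1
    rw [← hv, h, Nat.cast_zero]
  have hh' : l.1.val ≠ 2 ^ (a - 1) := by
    intro h
    apply l.2.2
    rw [← hv, h]
    rfl
  by_cases hc : l.1.val < 2 ^ (a - 1)
  · refine ⟨⟨l.1.val - 1, by omega⟩, Or.inl ?_⟩
    rw [genFin_val]
    have : l.1.val - 1 + 1 = l.1.val := by omega
    simp only [this]
    exact hv.symm
  · refine ⟨⟨2 ^ a - l.1.val - 1, by omega⟩, Or.inr ?_⟩
    rw [genFin_val]
    have : 2 ^ a - l.1.val - 1 + 1 = 2 ^ a - l.1.val := by omega
    simp only [this]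
    have h3 : ((l.1.val + (2 ^ a - l.1.val) : ℕ) : ZMod (2 ^ a)) = 0 := by
      have : l.1.val + (2 ^ a - l.1.val) = 2 ^ a := by omega
      rw [this]
      exact ZMod.natCast_self _
    rw [Nat.cast_add, hv] at h3
    exact eq_neg_of_add_eq_zero_left h3

variable {ζ : ℂ} (hζ : IsPrimitiveRoot ζ (2 ^ a))

include D hζ in
theorem zeta_half : ζ ^ (2 ^ (a - 1)) = -1 := by
  have h2 := D.two_mul_half
  have h3 : IsPrimitiveRoot (ζ ^ (2 ^ (a - 1))) (2 ^ a / 2 ^ (a - 1)) :=
    hζ.pow_of_dvd (pow_ne_zero _ two_ne_zero) ⟨2, by rw [← h2]; ring⟩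
  have h4 : 2 ^ a / 2 ^ (a - 1) = 2 := by
    rw [← h2]
    exact Nat.mul_div_left 2 (Nat.pos_of_ne_zero (pow_ne_zero _ two_ne_zero))
  rw [h4] at h3
  exact h3.eq_neg_one_of_two_right

include D in
theorem zp_hh_mul (l : ℕ) : zp hζ (hh a * (l : ZMod (2 ^ a))) = (-1) ^ l := by
  unfold hh
  rw [← Nat.cast_mul, zp_natCast, pow_mul, D.zeta_half hζ]

theorem zp_cast_mul (k l : ℕ) :
    zp hζ ((k : ZMod (2 ^ a)) * (l : ZMod (2 ^ a))) = ζ ^ (k * l) := by
  rw [← Nat.cast_mul, zp_natCast]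

end Setup

end Cfsg.Agent.H2.Dih
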