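import Mathlib
import Cfsg.Prelude.Def_Blocks
import Cfsg.Agent.H2.Dih.M5

set_option autoImplicit false
set_option linter.style.haveILetI false
set_option linter.unusedSectionVars false
set_option linter.unusedVariables false
set_option maxHeartbeats 3200000

/-!
# Brauer's theorem on the principal 2-block of a group with dihedral Sylow 2-subgroups
-/

namespace Cfsg.Agent.H2.Dih

open Cfsg Cfsg.Agent.Lib.helper3.Block Cfsg.Agent.Lib.helper3.Irr
open Cfsg.Agent.Lib.helper3.CharBasic Cfsg.Agent.H2.Hom2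
open scoped ComplexConjugate

universe u

namespace Setup

variable {G : Type u} [Group G] [Finite G] {M : Ideal AlgInt} {a : ℕ} (D : Setup G a)
  {ζ : ℂ} (hζ : IsPrimitiveRoot ζ (2 ^ a))

include hζ in
theorem main (hM : IsPModular 2 M) :
    Nat.card (principalBlock M G) = 3 + 2 ^ (a - 1) ∧
    ∃ (χ₁ χ₂ χ₃ : IrrCharacter G) (χ' : Fin (2 ^ (a - 1) - 1) → IrrCharacter G) (δ₁ δ₂ δ₃ : ℤ),
      (δ₁ = 1 ∨ δ₁ = -1) ∧ (δ₂ = 1 ∨ δ₂ = -1) ∧ (δ₃ = 1 ∨ δ₃ = -1) ∧ Function.Injective χ' ∧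
      (χ₁ : G → ℂ) ≠ (fun _ => 1) ∧ (χ₂ : G → ℂ) ≠ (fun _ => 1) ∧ (χ₃ : G → ℂ) ≠ (fun _ => 1) ∧
      χ₁ ≠ χ₂ ∧ χ₁ ≠ χ₃ ∧ χ₂ ≠ χ₃ ∧
      (∀ j, χ' j ≠ χ₁ ∧ χ' j ≠ χ₂ ∧ χ' j ≠ χ₃ ∧ (χ' j : G → ℂ) ≠ (fun _ => 1)) ∧
      principalBlock M G = {χ : IrrCharacter G | (χ : G → ℂ) = (fun _ => 1) ∨ χ = χ₁ ∨ χ = χ₂ ∨
        χ = χ₃ ∨ ∃ j, χ = χ' j} ∧
      (∀ l : ℕ, 0 < l → l < 2 ^ a →
        (χ₁ : G → ℂ) (D.σ ^ l) = δ₁ ∧ (χ₂ : G → ℂ) (D.σ ^ l) = δ₂ * (-1) ^ (l + 1) ∧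
        (χ₃ : G → ℂ) (D.σ ^ l) = δ₃ * (-1) ^ (l + 1) ∧
        ∀ j : Fin (2 ^ (a - 1) - 1), (χ' j : G → ℂ) (D.σ ^ l) =
          δ₁ * (ζ ^ (((j : ℕ) + 1) * l) + (ζ ^ (((j : ℕ) + 1) * l))⁻¹)) ∧
      ∀ ρ : G, Odd (orderOf ρ) → ∀ j : Fin (2 ^ (a - 1) - 1),
        1 + δ₁ * (χ₁ : G → ℂ) ρ = -δ₂ * (χ₂ : G → ℂ) ρ - δ₃ * (χ₃ : G → ℂ) ρ ∧
        1 + δ₁ * (χ₁ : G → ℂ) ρ = δ₁ * (χ' j : G → ℂ) ρ := by
  classical
  letI : Fintype ↥(principalBlock M G) := Fintype.ofFinite _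
  -- the principal character
  obtain ⟨o, ho⟩ : ∃ o : ↥(principalBlock M G), (o.1 : G → ℂ) = fun _ => 1 :=
    ⟨⟨⟨fun _ => 1, isIrrCharacter_one⟩, sameBlock_refl hM.2.1.ne_top _⟩, rfl⟩
  -- degrees
  have hdeg : ∀ i : ↥(principalBlock M G), ∃ k : ℕ, 0 < k ∧ (i.1 : G → ℂ) 1 = k :=
    fun i => exists_pos_nat_apply_one i.1.2
  choose dn hdn0 hdn using hdeg
  have hd : ∀ i : ↥(principalBlock M G), (i.1 : G → ℂ) 1 = (((dn i : ℤ) : ℤ) : ℂ) := by
    intro i
    rw [hdn i, Int.cast_natCast]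
  have hdpos : ∀ i, 0 < (dn i : ℤ) := fun i => by exact_mod_cast hdn0 i
  obtain ⟨R⟩ := D.exists_res hζ hM o ho (fun i => (dn i : ℤ)) hd hdpos
  -- a generic index
  have h2h : 2 ≤ 2 ^ (a - 1) := by
    have : 2 ^ 1 ≤ 2 ^ (a - 1) := Nat.pow_le_pow_right (by norm_num) (by have := D.ha; omega)
    omega
  have hsign : R.ε = R.ε₁ :=
    R.sign_eq hM ho (D.genNat (k := 1) (by norm_num) (by omega))
  -- the family `χ'`
  have hXinj : Function.Injective (fun j : Fin (2 ^ (a - 1) - 1) => R.X (D.genFin j)) := by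
    intro j j' h
    exact D.genRel_genFin ((R.hX _ _).mp h)
  have hne_one : ∀ b : ↥(principalBlock M G), b ≠ o → (b.1 : G → ℂ) ≠ fun _ => 1 := by
    intro b hb h
    apply hb
    apply Subtype.ext
    apply Subtype.ext
    rw [h, ho]
  have hval_ne : ∀ b b' : ↥(principalBlock M G), b ≠ b' → b.1 ≠ b'.1 :=
    fun b b' h h' => h (Subtype.ext h')
  -- completeness
  have hcomplete : ∀ b : ↥(principalBlock M G), b = o ∨ b = R.χ₁ ∨ b = R.χ₂ ∨ b = R.χ₃ ∨
      ∃ j : Fin (2 ^ (a - 1) - 1), b = R.X (D.genFin j) := by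
    intro b
    rcases R.complete hM b with h | h | h | h | ⟨l, h⟩
    · exact Or.inl h
    · exact Or.inr (Or.inl h)
    · exact Or.inr (Or.inr (Or.inl h))
    · exact Or.inr (Or.inr (Or.inr (Or.inl h)))
    · obtain ⟨j, hj⟩ := D.exists_genFin l
      exact Or.inr (Or.inr (Or.inr (Or.inr ⟨j, h.trans ((R.hX _ _).mpr hj)⟩)))
  refine ⟨?_, R.χ₁.1, R.χ₂.1, R.χ₃.1, fun j => (R.X (D.genFin j)).1, R.ε₁, -R.ε₂, -R.ε₃, R.hε₁,
    ?_, ?_, ?_, hne_one _ R.h1o, hne_one _ R.h2o, hne_one _ R.h3o, hval_ne _ _ R.h12,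
    hval_ne _ _ R.h13, hval_ne _ _ R.h23, ?_, ?_, ?_, ?_⟩
  · -- cardinality
    have huniv : (Finset.univ : Finset ↥(principalBlock M G)) =
        insert o (insert R.χ₁ (insert R.χ₂ (insert R.χ₃
          (Finset.univ.image (fun j : Fin (2 ^ (a - 1) - 1) => R.X (D.genFin j)))))) := by
      ext b
      simp only [Finset.mem_univ, Finset.mem_insert, Finset.mem_image, true_and, true_iff]
      rcases hcomplete b with h | h | h | h | ⟨j, h⟩
      · exact Or.inl h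
      · exact Or.inr (Or.inl h)
      · exact Or.inr (Or.inr (Or.inl h))
      · exact Or.inr (Or.inr (Or.inr (Or.inl h)))
      · exact Or.inr (Or.inr (Or.inr (Or.inr ⟨j, h.symm⟩)))
    have hcard : Fintype.card ↥(principalBlock M G) = 2 ^ (a - 1) - 1 + 1 + 1 + 1 + 1 := by
      rw [← Finset.card_univ, huniv, Finset.card_insert_of_notMem, Finset.card_insert_of_notMem,
        Finset.card_insert_of_notMem, Finset.card_insert_of_notMem,
        Finset.card_image_of_injective _ hXinj, Finset.card_univ, Fintype.card_fin]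
      · simp only [Finset.mem_image, Finset.mem_univ, true_and, not_exists]
        intro j h
        exact (R.hXne _).2.2.2 h
      · simp only [Finset.mem_insert, Finset.mem_image, Finset.mem_univ, true_and, not_or,
          not_exists]
        exact ⟨R.h23, fun j h => (R.hXne _).2.2.1 h⟩
      · simp only [Finset.mem_insert, Finset.mem_image, Finset.mem_univ, true_and, not_or,
          not_exists]
        exact ⟨R.h12, R.h13, fun j h => (R.hXne _).2.1 h⟩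
      · simp only [Finset.mem_insert, Finset.mem_image, Finset.mem_univ, true_and, not_or,
          not_exists]
        exact ⟨R.h1o.symm, R.h2o.symm, R.h3o.symm, fun j h => (R.hXne _).1 h⟩
    rw [Nat.card_eq_fintype_card, hcard]
    omega
  · rcases R.hε₂ with h | h <;> rw [h] <;> simp
  · rcases R.hε₃ with h | h <;> rw [h] <;> simp
  · intro j j' h
    exact hXinj (Subtype.ext h)
  · intro j
    exact ⟨hval_ne _ _ (R.hXne _).2.1, hval_ne _ _ (R.hXne _).2.2.1,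
      hval_ne _ _ (R.hXne _).2.2.2, hne_one _ (R.hXne _).1⟩
  · -- the block
    ext χ
    simp only [Set.mem_ofPred_eq]
    constructor
    · intro hχ
      rcases hcomplete ⟨χ, hχ⟩ with h | h | h | h | ⟨j, h⟩
      · left
        have := congrArg (fun b : ↥(principalBlock M G) => (b.1 : G → ℂ)) h
        simp only at this
        rw [this, ho]
      · exact Or.inr (Or.inl (congrArg Subtype.val h))
      · exact Or.inr (Or.inr (Or.inl (congrArg Subtype.val h)))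
      · exact Or.inr (Or.inr (Or.inr (Or.inl (congrArg Subtype.val h))))
      · exact Or.inr (Or.inr (Or.inr (Or.inr ⟨j, congrArg Subtype.val h⟩)))
    · rintro (h | h | h | h | ⟨j, h⟩)
      · have : χ = o.1 := by
          apply Subtype.ext
          rw [h, ho]
        rw [this]
        exact o.2
      · rw [h]; exact R.χ₁.2
      · rw [h]; exact R.χ₂.2
      · rw [h]; exact R.χ₃.2
      · rw [h]; exact (R.X (D.genFin j)).2
  · -- the values
    intro l hl0 hlN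
    have hl : ((l : ℕ) : ZMod (2 ^ a)) ≠ 0 := cast_ne_zero hl0 hlN
    rw [← D.sp_natCast l]
    refine ⟨?_, ?_, ?_, ?_⟩
    · rw [D.value_one_term hζ R.χ₁ _ _ _ R.dev_chi1 hl, zero_mul, zp_zero, mul_one]
    · rw [D.value_one_term hζ R.χ₂ _ _ _ R.dev_chi2 hl, D.zp_hh_mul hζ l]
      push_cast
      ring
    · rw [D.value_one_term hζ R.χ₃ _ _ _ R.dev_chi3 hl, D.zp_hh_mul hζ l]
      push_cast
      ring
    · intro j
      rw [D.value_two_terms hζ (R.X (D.genFin j)) _ _ _ _ (R.dev_X (D.genFin j)) hl, neg_mul,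
        zp_neg, D.genFin_val, zp_cast_mul hζ, hsign]
  · -- the relations
    intro ρ hρ j
    obtain ⟨h1, h2⟩ := R.rel_odd hM ρ hρ (D.genFin j)
    rw [ho, hsign] at h1
    rw [hsign] at h2
    have h1' : (1 : ℂ) + (R.ε₁ : ℂ) * (R.χ₁.1 : G → ℂ) ρ =
        (R.ε₁ : ℂ) * ((R.X (D.genFin j)).1 : G → ℂ) ρ := h1
    constructor
    · push_cast
      rw [h1', ← h2]
      ring
    · exact h1'

end Setup

end Cfsg.Agent.H2.Dih
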